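import Cfsg.Agent.BinaryPSL.Criteria
import Cfsg.Agent.Dickson.MaxCoatom
import Cfsg.Agent.Dickson.MaxPoly

/-!
Suborbit witnesses inside `A₄`, `S₄` and `A₅`.
-/

set_option autoImplicit false
set_option synthInstance.maxSize 2000
set_option synthInstance.maxHeartbeats 400000

namespace CfsgLib.BinaryPSL

section Reduce

variable {K : Type*} [Group K]

/-- A decidable form of `Triple` for a subgroup given as a list of its elements. -/
theorem triple_top_of_list {X : Subgroup K} {L : List K} (hL : ∀ x, x ∈ X ↔ x ∈ L) {g k b c : K}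
    (hb : g⁻¹ * b * g ∈ L) (hc : k⁻¹ * c * k ∈ L) (ha : b * c ∈ L)
    (h : ∀ x ∈ L, ∀ y ∈ L, g⁻¹ * x * g ∈ L → k⁻¹ * y * k ∈ L → x * y ≠ b * c) : Triple X ⊤ :=
  ⟨g, trivial, k, trivial, b, c, (hL _).mpr hb, (hL _).mpr hc, (hL _).mpr ha,
    fun x hx y hy hxg hyk => h x ((hL x).mp hx) y ((hL y).mp hy) ((hL _).mp hxg) ((hL _).mp hyk)⟩

theorem mem_zpowers_three {c x : K} (hc : c ^ 3 = 1) :
    x ∈ Subgroup.zpowers c ↔ x ∈ [1, c, c * c] := by
  constructor
  · rintro ⟨i, rfl⟩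
    show c ^ i ∈ _
    rw [← Int.ediv_mul_add_emod i ((3 : ℕ) : ℤ), zpow_add, mul_comm (i / _), zpow_mul, zpow_natCast, hc,
      one_zpow, one_mul]
    have h1 : 0 ≤ i % ((3 : ℕ) : ℤ) := Int.emod_nonneg _ (by norm_num)
    have h2 : i % ((3 : ℕ) : ℤ) < 3 := Int.emod_lt_of_pos _ (by norm_num)
    obtain h | h | h : i % ((3 : ℕ) : ℤ) = 0 ∨ i % ((3 : ℕ) : ℤ) = 1 ∨ i % ((3 : ℕ) : ℤ) = 2 := by omega
    all_goals rw [h]
    all_goals simp [zpow_ofNat, pow_two]
  · intro h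
    simp only [List.mem_cons, List.not_mem_nil, or_false] at h
    rcases h with rfl | rfl | rfl
    · exact one_mem _
    · exact Subgroup.mem_zpowers x
    · exact mul_mem (Subgroup.mem_zpowers c) (Subgroup.mem_zpowers c)

end Reduce

local notation "A4" => alternatingGroup (Fin 4)
local notation "S4" => Equiv.Perm (Fin 4)
local notation "A5" => alternatingGroup (Fin 5)

/-- Transfer a witness along conjugation. -/
theorem triple_conj {K : Type*} [Group K] {X : Subgroup K} (h : Triple X ⊤) (g : K) :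
    Triple (X.map (MulAut.conj g).toMonoidHom) ⊤ := by
  have := h.map (φ := (MulAut.conj g).toMonoidHom) (MulAut.conj g).injective
  rwa [Subgroup.map_top_of_surjective _ (MulAut.conj g).surjective] at this

theorem three_a4 : ∀ c : A4, c ^ 3 = 1 → c ≠ 1 → ∃ g k : A4,
    g⁻¹ * (g * c * g⁻¹) * g ∈ [1, c, c * c] ∧
    g * c * g⁻¹ * (k * c * k⁻¹) ∈ [1, c, c * c] ∧
    ∀ x ∈ [1, c, c * c], ∀ y ∈ [1, c, c * c], g⁻¹ * x * g ∈ [1, c, c * c] →
      k⁻¹ * y * k ∈ [1, c, c * c] → x * y ≠ g * c * g⁻¹ * (k * c * k⁻¹) := by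
  decide +kernel

theorem triple_alt_four {c : A4} (hc : c ^ 3 = 1) (h1 : c ≠ 1) : Triple (Subgroup.zpowers c) ⊤ := by
  obtain ⟨g, k, hb, ha, h⟩ := three_a4 c hc h1
  exact triple_top_of_list (fun x => mem_zpowers_three hc) hb (by simp [mul_assoc]) ha h

theorem three_s4 : ∀ c : S4, c ^ 3 = 1 → c ≠ 1 → ∃ g k : S4,
    g⁻¹ * (g * c * g⁻¹) * g ∈ [1, c, c * c] ∧
    g * c * g⁻¹ * (k * c * k⁻¹) ∈ [1, c, c * c] ∧
    ∀ x ∈ [1, c, c * c], ∀ y ∈ [1, c, c * c], g⁻¹ * x * g ∈ [1, c, c * c] →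
      k⁻¹ * y * k ∈ [1, c, c * c] → x * y ≠ g * c * g⁻¹ * (k * c * k⁻¹) := by
  decide +kernel

theorem triple_sym_four {c : S4} (hc : c ^ 3 = 1) (h1 : c ≠ 1) : Triple (Subgroup.zpowers c) ⊤ := by
  obtain ⟨g, k, hb, ha, h⟩ := three_s4 c hc h1
  exact triple_top_of_list (fun x => mem_zpowers_three hc) hb (by simp [mul_assoc]) ha h

/-- The 3-cycle `(0 1 2)`. -/
def c5 : A5 := ⟨Equiv.swap 0 1 * Equiv.swap 1 2, Equiv.Perm.mem_alternatingGroup.mpr (by decide)⟩

/-- A double transposition inverting `c5`. -/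
def t5 : A5 := ⟨Equiv.swap 1 2 * Equiv.swap 3 4, Equiv.Perm.mem_alternatingGroup.mpr (by decide)⟩

/-- Elements used in the witnesses. -/
def mk5 (a b c d : Fin 5) (h : Equiv.Perm.sign (Equiv.swap a b * Equiv.swap c d) = 1) : A5 :=
  ⟨Equiv.swap a b * Equiv.swap c d, h⟩

theorem c5_witness : ∃ g k : A5, ∃ b ∈ [c5, c5 * c5], ∃ c ∈ [c5, c5 * c5],
    g * b * g⁻¹ * (k * c * k⁻¹) ∈ [1, c5, c5 * c5] ∧
    ∀ x ∈ [1, c5, c5 * c5], ∀ y ∈ [1, c5, c5 * c5], g⁻¹ * x * g ∈ [1, c5, c5 * c5] →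
      k⁻¹ * y * k ∈ [1, c5, c5 * c5] → x * y ≠ g * b * g⁻¹ * (k * c * k⁻¹) := by
  decide +kernel

theorem s3_witness : ∃ g k : A5,
    ∃ b ∈ [1, c5, c5 * c5, t5, t5 * c5, t5 * (c5 * c5)],
    ∃ c ∈ [1, c5, c5 * c5, t5, t5 * c5, t5 * (c5 * c5)],
    g * b * g⁻¹ * (k * c * k⁻¹) ∈ [1, c5, c5 * c5, t5, t5 * c5, t5 * (c5 * c5)] ∧
    ∀ x ∈ [1, c5, c5 * c5, t5, t5 * c5, t5 * (c5 * c5)],
    ∀ y ∈ [1, c5, c5 * c5, t5, t5 * c5, t5 * (c5 * c5)],
      g⁻¹ * x * g ∈ [1, c5, c5 * c5, t5, t5 * c5, t5 * (c5 * c5)] →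
      k⁻¹ * y * k ∈ [1, c5, c5 * c5, t5, t5 * c5, t5 * (c5 * c5)] →
      x * y ≠ g * b * g⁻¹ * (k * c * k⁻¹) := by
  decide +kernel

theorem conj_c5 : ∀ c : A5, c ^ 3 = 1 → c ≠ 1 → ∃ g : A5, g * c5 * g⁻¹ = c := by decide +kernel

theorem normalizer_c5 : ∀ x : A5, x * c5 * x⁻¹ ∈ [1, c5, c5 * c5] →
    x ∈ [1, c5, c5 * c5, t5, t5 * c5, t5 * (c5 * c5)] := by decide +kernel

theorem alt_five_orders : ∀ x : A5, x ^ 2 = 1 ∨ x ^ 3 = 1 ∨ x ^ 5 = 1 := CfsgLib.Dickson.alt_five_pow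

theorem c5_pow : c5 ^ 3 = 1 := by decide

theorem c5_ne : c5 ≠ 1 := by decide

/-- A subgroup of `A₅` containing an element of order 3 is small, of index 5, or everything. -/
theorem alt_five_over_three {X : Subgroup A5} {c : A5} (hc : c ^ 3 = 1) (hc1 : c ≠ 1) (hcX : c ∈ X) :
    Triple X ⊤ ∨ X.index = 5 ∨ X = ⊤ := by
  obtain ⟨g, hg⟩ := conj_c5 c hc hc1
  set Y := X.map (MulAut.conj g⁻¹).toMonoidHom with hY
  have hXY : X = Y.map (MulAut.conj g).toMonoidHom := by
    rw [hY, Subgroup.map_map]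
    ext x
    simp [Subgroup.mem_map, mul_assoc]
  suffices Triple Y ⊤ ∨ Y.index = 5 ∨ Y = ⊤ by
    rcases this with h | h | h
    · exact Or.inl (hXY ▸ triple_conj h g)
    · refine Or.inr (Or.inl ?_)
      rw [hXY, Subgroup.index_map_of_bijective (MulAut.conj g).bijective]
      exact h
    · refine Or.inr (Or.inr ?_)
      rw [hXY, h, Subgroup.map_top_of_surjective _ (MulAut.conj g).surjective]
  have hcY : c5 ∈ Y := by
    rw [hY, Subgroup.mem_map_equiv]; simpa [← hg] using hcX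
  have hA : Nat.card A5 = 60 := CfsgLib.Dickson.card_alt_five
  have h3 : 3 ∣ Nat.card Y := by
    have ho : orderOf c5 = 3 := orderOf_eq_prime c5_pow c5_ne
    rw [← ho]
    exact Subgroup.orderOf_dvd_natCard Y hcY
  have hd : Nat.card Y ∣ 60 := hA ▸ Subgroup.card_subgroup_dvd_card Y
  have hmul := Subgroup.card_mul_index Y
  rw [hA] at hmul
  haveI : Fact (Nat.Prime 3) := ⟨Nat.prime_three⟩
  have hidx : Y = ⊤ ∨ 5 ≤ Y.index := by
    by_contra hcon
    push Not at hcon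
    have hker : (MulAction.toPermHom A5 (A5 ⧸ Y)).ker = ⊥ := by
      rw [← Subgroup.normalCore_eq_ker]
      rcases (Subgroup.normalCore_normal Y).eq_bot_or_eq_top with h | h
      · exact h
      · exact absurd (top_le_iff.mp (h ▸ Subgroup.normalCore_le Y)) hcon.1
    have hd := Subgroup.card_dvd_of_injective _ ((MonoidHom.ker_eq_bot_iff _).mp hker)
    rw [Nat.card_perm, ← Subgroup.index_eq_card, hA] at hd
    have : Y.index.factorial ∣ 24 := Nat.factorial_dvd_factorial (by omega : Y.index ≤ 4)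
    have := Nat.le_of_dvd (by norm_num) (hd.trans this)
    omega
  rcases hidx with h | h5
  · exact Or.inr (Or.inr h)
  have hle : Nat.card Y ≤ 12 := by
    by_contra h
    have := Nat.mul_le_mul (not_le.mp h) h5
    omega
  have hcases : Nat.card Y = 3 ∨ Nat.card Y = 6 ∨ Nat.card Y = 12 := by
    obtain ⟨e, he⟩ := h3
    rw [he] at hd hle
    have : e ≤ 4 := by omega
    interval_cases e <;> first | omega | simp_all
  rcases hcases with h | h | h
  · have hYc : Y = Subgroup.zpowers c5 := by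
      refine (Subgroup.eq_of_le_of_card_ge (Subgroup.zpowers_le.mpr hcY) ?_).symm
      rw [h, Nat.card_zpowers, orderOf_eq_prime c5_pow c5_ne]
    obtain ⟨g', k, b, hb, c', hc', ha, hno⟩ := c5_witness
    exact Or.inl (hYc ▸ triple_top_of_list (fun x => mem_zpowers_three c5_pow)
      (g := g') (k := k) (b := g' * b * g'⁻¹) (c := k * c' * k⁻¹)
      (by simpa [mul_assoc] using List.mem_cons_of_mem 1 hb)
      (by simpa [mul_assoc] using List.mem_cons_of_mem 1 hc') ha hno)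
  · have hnorm : (Subgroup.zpowers (⟨c5, hcY⟩ : Y)).Normal := by
      refine Subgroup.normal_of_index_eq_two ?_
      have := Subgroup.card_mul_index (Subgroup.zpowers (⟨c5, hcY⟩ : Y))
      rw [Nat.card_zpowers, ← Subgroup.orderOf_coe, orderOf_eq_prime c5_pow c5_ne, h] at this
      omega
    have hsub : ∀ x ∈ Y, x ∈ [1, c5, c5 * c5, t5, t5 * c5, t5 * (c5 * c5)] := fun x hx => by
      refine normalizer_c5 x ((mem_zpowers_three c5_pow).mp ?_)
      have := hnorm.conj_mem _ (Subgroup.mem_zpowers _) ⟨x, hx⟩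
      obtain ⟨i, hi⟩ := this
      exact ⟨i, by simpa using congrArg Subtype.val hi⟩
    have hall : ∀ x, x ∈ Y ↔ x ∈ [1, c5, c5 * c5, t5, t5 * c5, t5 * (c5 * c5)] := by
      classical
      set L := [1, c5, c5 * c5, t5, t5 * c5, t5 * (c5 * c5)] with hL
      have hfin : (Finset.univ.filter fun x => x ∈ Y) = L.toFinset := by
        refine Finset.eq_of_subset_of_card_le
          (fun x hx => List.mem_toFinset.mpr (hsub x (Finset.mem_filter.mp hx).2)) ?_
        rw [← Fintype.card_subtype, ← Nat.card_eq_fintype_card, show Nat.card {x // x ∈ Y} = 6 from h]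
        exact List.toFinset_card_le L
      intro x
      simpa using Finset.ext_iff.mp hfin x
    obtain ⟨g', k, b, hb, c', hc', ha, hno⟩ := s3_witness
    exact Or.inl (triple_top_of_list hall (g := g') (k := k) (b := g' * b * g'⁻¹)
      (c := k * c' * k⁻¹) (by simpa [mul_assoc] using hb) (by simpa [mul_assoc] using hc') ha hno)
  · refine Or.inr (Or.inl ?_)
    rw [h] at hmul
    omega

/-- An index five subgroup of `A₅` gives a non-binary action. -/
theorem not_isBinary_alt_five {X : Subgroup A5} (hX : X.index = 5) : ¬ IsBinary X := by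
  intro hb
  classical
  haveI := Fintype.ofFinite (A5 ⧸ X)
  let e : (A5 ⧸ X) ≃ Fin 5 := (Fintype.equivFinOfCardEq (by
    rw [← Nat.card_eq_fintype_card, ← Subgroup.index_eq_card, hX]))
  set φ := MulAction.toPermHom A5 (A5 ⧸ X)
  have hinj : Function.Injective φ := by
    rw [← MonoidHom.ker_eq_bot_iff, ← Subgroup.normalCore_eq_ker]
    rcases (Subgroup.normalCore_normal X).eq_bot_or_eq_top with h | h
    · exact h
    · have := top_le_iff.mp (h ▸ Subgroup.normalCore_le X)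
      rw [this, Subgroup.index_top] at hX
      omega
  have hrange : φ.range = alternatingGroup (A5 ⧸ X) := by
    refine Equiv.Perm.eq_alternatingGroup_of_index_eq_two ?_
    have h := Subgroup.card_mul_index φ.range
    rw [← Nat.card_congr (MonoidHom.ofInjective hinj).toEquiv, CfsgLib.Dickson.card_alt_five,
      Nat.card_perm, ← Subgroup.index_eq_card X, hX] at h
    norm_num [Nat.factorial] at h
    omega
  have key : ∀ p q p' q' : Fin 5, p ≠ q → p' ≠ q' → ∃ σ : A5, (σ : Equiv.Perm (Fin 5)) p = p' ∧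
      (σ : Equiv.Perm (Fin 5)) q = q' := by decide +kernel
  have lift : ∀ s : Equiv.Perm (A5 ⧸ X), Equiv.Perm.sign s = 1 → ∃ a : A5, ∀ p, a • p = s p :=
    fun s hs => by
      obtain ⟨a, ha⟩ := (hrange ▸ (Equiv.Perm.mem_alternatingGroup.mpr hs) : s ∈ φ.range)
      exact ⟨a, fun p => by rw [← ha]; rfl⟩
  set τ := Equiv.swap (e.symm 0) (e.symm 1) with hτ
  obtain ⟨a, ha⟩ := hb 5 (fun i => e.symm i) (fun i => τ (e.symm i)) (by norm_num) fun i j hij => by
    obtain ⟨σ, h1, h2⟩ := key i j (e (τ (e.symm i))) (e (τ (e.symm j))) hij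
      (e.injective.ne (τ.injective.ne (e.symm.injective.ne hij)))
    obtain ⟨a, ha⟩ := lift ((e.symm.permCongr) σ) (by simp [Equiv.Perm.mem_alternatingGroup.mp σ.2])
    exact ⟨a, by simp [ha, h1], by simp [ha, h2]⟩
  have hτa : τ = φ a := Equiv.ext fun p => by
    simpa [φ] using (ha (e p)).symm
  have : τ ∈ alternatingGroup (A5 ⧸ X) := hrange ▸ ⟨a, hτa.symm⟩
  rw [Equiv.Perm.mem_alternatingGroup, hτ, Equiv.Perm.sign_swap (e.symm.injective.ne (by decide))] at this
  exact absurd this (by decide)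

end CfsgLib.BinaryPSL
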