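import Cfsg.Agent.BinaryPSL.Facts

/-!
Cyclic subgroups of tori, and elements of tori.
-/

set_option autoImplicit false

namespace CfsgLib.BinaryPSL

open CfsgLib.SL2

variable {F : Type*} [Field F]

local notation "SLF" => Matrix.SpecialLinearGroup (Fin 2) F
local notation "PF" => Matrix.ProjectiveSpecialLinearGroup (Fin 2) F

/-- An element inverting a non-involution inverts its whole centraliser. -/
theorem inverts_centralizer {x t g : PF} (hx : x * x ≠ 1) (hg : Commute g x)
    (ht : t * x * t⁻¹ = x⁻¹) : t * g * t⁻¹ = g⁻¹ := by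
  obtain ⟨X, rfl⟩ := pmk_surjective x
  obtain ⟨T, rfl⟩ := pmk_surjective t
  obtain ⟨G, rfl⟩ := pmk_surjective g
  have hX1 : pmk X ≠ 1 := fun h => hx (by rw [h, one_mul])
  rw [← map_inv, ← map_mul, ← map_mul, ← map_inv] at ht ⊢
  have hTX : T * X * T⁻¹ = X⁻¹ := by
    rcases pmk_eq_iff.1 ht with e | e
    · exact e
    · by_cases h20 : (2 : F) = 0
      · have : CharP F 2 := CharTwo.of_one_ne_zero_of_two_eq_zero one_ne_zero h20
        rwa [← neg_one_mul X⁻¹, neg_one_eq_one, one_mul] at e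
      · exfalso
        have h2 : tr X = - tr X := by
          have := congrArg tr e
          rw [tr_conj, tr_neg, tr_inv] at this
          exact this
        have h0 : tr X = 0 :=
          (mul_eq_zero.1 (show (2 : F) * tr X = 0 by linear_combination h2)).resolve_left h20
        exact hx (by rw [← map_mul, mul_self_of_tr_eq_zero h0]; exact pmk_eq_one_iff.2 (Or.inr rfl))
  obtain ⟨α, β, hαβ⟩ := (mem_centralizer_iff_exists (not_mem_center hX1)).1
    (Subgroup.mem_centralizer_singleton_iff.2 (commute_lift hg.symm hx).symm)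
  congr 1
  apply Subtype.ext
  have hT : (T : Matrix (Fin 2) (Fin 2) F) * (X : Matrix (Fin 2) (Fin 2) F) *
      ((T⁻¹ : SLF) : Matrix (Fin 2) (Fin 2) F) = ((X⁻¹ : SLF) : Matrix (Fin 2) (Fin 2) F) := by
    rw [← hTX]; rfl
  have hTT : (T : Matrix (Fin 2) (Fin 2) F) * ((T⁻¹ : SLF) : Matrix (Fin 2) (Fin 2) F) = 1 := by
    rw [← Matrix.SpecialLinearGroup.coe_mul, mul_inv_cancel]; rfl
  show (T : Matrix (Fin 2) (Fin 2) F) * (G : Matrix (Fin 2) (Fin 2) F) *
      ((T⁻¹ : SLF) : Matrix (Fin 2) (Fin 2) F) = ((G⁻¹ : SLF) : Matrix (Fin 2) (Fin 2) F)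
  rw [hαβ, mul_add, add_mul, mul_smul_comm, mul_smul_comm, smul_mul_assoc, smul_mul_assoc, mul_one,
    hTT, hT]
  rw [Matrix.SpecialLinearGroup.coe_inv, Matrix.SpecialLinearGroup.coe_inv, hαβ]
  ext i j
  fin_cases i <;> fin_cases j <;> simp [Matrix.adjugate_fin_two]

/-- The order of `r` is prime to the characteristic iff its lifts have trace different from `±2`. -/
theorem tr_sq_ne_four {p : ℕ} [Fact p.Prime] [CharP F p] {R : SLF} (hr1 : pmk R ≠ 1)
    (hp : ¬ p ∣ orderOf (pmk R)) : tr R ^ 2 ≠ 4 := by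
  intro h4
  have key : ∀ S : SLF, tr S = 2 → pmk S = pmk R → False := by
    intro S hS he
    have hS1 : S ≠ 1 := fun e => hr1 (by rw [← he, e, map_one])
    have h1 : pmk R ^ p = 1 := by
      rw [← he, ← map_pow, ← orderOf_eq_of_tr_eq_two (p := p) hS1 hS, pow_orderOf_eq_one, map_one]
    rcases (Nat.dvd_prime Fact.out).1 (orderOf_dvd_of_pow_eq_one h1) with h | h
    · exact hr1 (orderOf_eq_one_iff.1 h)
    · exact hp (h ▸ dvd_refl _)
  rcases mul_eq_zero.1 (show (tr R - 2) * (tr R + 2) = 0 by linear_combination h4) with h | h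
  · exact key R (sub_eq_zero.1 h) rfl
  · exact key (-R) (by rw [tr_neg]; linear_combination -h) (pmk_neg R)

variable [Fintype F]

/-- The trace witness for a cyclic subgroup. -/
theorem not_isBinary_of_trace {R : SLF} (ht : tr R ^ 2 ≠ 4) (ht1 : tr R ≠ -1) :
    ¬ IsBinary (Subgroup.zpowers (pmk R : PF)) := by
  set t := tr R with htdef
  have h2t : 2 + t ≠ 0 := fun h => ht (by linear_combination (t - 2) * h)
  have htm : t - 2 ≠ 0 := fun h => ht (by linear_combination (t + 2) * h)
  obtain ⟨v, y, hvy⟩ := exists_form_eq ht (t ^ 2 / (2 + t) - 1)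
  set e := t / (2 + t) with he
  set x := y + e with hx
  set wv := v + e with hwv
  have hdet : x * (t - x) - (wv + t * (x - 1)) * wv = 1 := by
    rw [hx, hwv, he]
    linear_combination (norm := (field_simp; ring)) -hvy
  set B₀ := mk4 x (wv + t * (x - 1)) wv (t - x) hdet with hB₀
  have htB : tr B₀ = t := by simp [hB₀, tr]
  have htC : tr (B₀⁻¹ * comp t) = t := by
    simp [hB₀, tr, comp, Matrix.mul_apply, Fin.sum_univ_two, Matrix.SpecialLinearGroup.coe_inv,
      Matrix.adjugate_fin_two]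
    ring
  obtain ⟨P, hP⟩ := isConj_iff.1 (isConj_of_tr_eq (g := comp t) (h := R)
    (by rw [tr_comp]; exact ht) (by rw [tr_comp]))
  set B := P * B₀ * P⁻¹ with hB
  set C := B⁻¹ * R with hC
  have hBtr : tr B = tr R := by rw [hB, tr_conj, htB]
  have hCtr : tr C = tr R := by
    have : C = P * (B₀⁻¹ * comp t) * P⁻¹ := by
      rw [hC, hB, ← hP]; group
    rw [this, tr_conj, htC]
  have hne : B * R ≠ R * B := by
    intro h
    rcases eq_or_eq_inv_of_tr_eq ht (Subgroup.mem_centralizer_singleton_iff.2 h) hBtr with e | e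
    · rw [hC, e, inv_mul_cancel] at hCtr
      simp [tr] at hCtr
      exact htm (by rw [htdef]; simp only [tr]; linear_combination -hCtr)
    · rw [hC, e, inv_inv] at hCtr
      have hsq : tr (R * R) = t ^ 2 - 2 := by
        have := det_eq R
        simp [htdef, tr, Matrix.mul_apply, Fin.sum_univ_two]
        linear_combination -2 * this
      rw [hsq, ← htdef] at hCtr
      rcases mul_eq_zero.1 (show (t - 2) * (t + 1) = 0 by linear_combination hCtr) with h' | h'
      · exact htm h'
      · exact ht1 (eq_neg_of_add_eq_zero_left h')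
  obtain ⟨g, hg⟩ := isConj_iff.1 (isConj_of_tr_eq ht hBtr.symm)
  obtain ⟨k, hk⟩ := isConj_iff.1 (isConj_of_tr_eq ht hCtr.symm)
  have hR1 : pmk R ≠ 1 := fun h => by
    rcases pmk_eq_one_iff.1 h with e | e <;> refine ht ?_ <;> rw [htdef, e] <;> simp [tr] <;> ring
  have hTI : ∀ (g : SLF) (D : SLF), g * R * g⁻¹ = D → D * R ≠ R * D →
      ∀ x ∈ Subgroup.zpowers (pmk R : PF), (pmk g)⁻¹ * x * pmk g ∈ Subgroup.zpowers (pmk R) → x = 1 := by
    intro g D hgD hDR x hx hxg
    by_contra hx1
    obtain ⟨i, hi⟩ := hx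
    obtain ⟨j, hj⟩ := hxg
    simp only at hi hj
    have hxr : Commute x (pmk R) := hi ▸ (Commute.refl (pmk R)).zpow_left i
    have hxd : Commute x (pmk D) := by
      have h1 := ((Commute.refl (pmk R)).zpow_left j).map (MulAut.conj (pmk g)).toMonoidHom
      rw [hj] at h1
      simpa [← hgD, mul_assoc] using h1
    by_cases hr2 : pmk R * pmk R = 1
    · have hxR : x = pmk R := by
        rw [← hi] at hx1 ⊢
        rcases Int.even_or_odd i with ⟨m, rfl⟩ | ⟨m, rfl⟩
        · exact absurd (by rw [zpow_add, ← (Commute.refl (pmk R)).mul_zpow, hr2, one_zpow]) hx1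
        · rw [zpow_add_one, two_mul, zpow_add, ← (Commute.refl (pmk R)).mul_zpow, hr2, one_zpow, one_mul]
      have hj' : (pmk g)⁻¹ * x * pmk g = pmk R := by
        rw [← hj]
        rcases Int.even_or_odd j with ⟨m, rfl⟩ | ⟨m, rfl⟩
        · exfalso
          rw [zpow_add, ← (Commute.refl (pmk R)).mul_zpow, hr2, one_zpow] at hj
          exact hx1 (by simpa [mul_assoc, inv_mul_eq_one] using congrArg (fun z => pmk g * z * (pmk g)⁻¹) hj.symm)
        · rw [zpow_add_one, two_mul, zpow_add, ← (Commute.refl (pmk R)).mul_zpow, hr2, one_zpow, one_mul]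
      have hxD : x = pmk D := by
        rw [← hgD, map_mul, map_mul, map_inv, ← hj']; simp [mul_assoc]
      rcases pmk_eq_iff.1 (hxD.symm.trans hxR) with e | e <;> refine hDR ?_ <;> rw [e] <;> simp
    · obtain ⟨X, rfl⟩ := pmk_surjective x
      have hd2 : pmk D * pmk D ≠ 1 := fun h => hr2 (by
        rw [← hgD, map_mul, map_mul, map_inv, conj_mul, conj_eq_one_iff] at h
        exact h)
      exact hDR (centralizer_commute (not_mem_center hx1)
        (Subgroup.mem_centralizer_singleton_iff.2 (commute_lift hxd.symm hd2))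
        (Subgroup.mem_centralizer_singleton_iff.2 (commute_lift hxr.symm hr2)))
  have hCne : C * R ≠ R * C := fun h => hne (by
    have : B = R * C⁻¹ := by rw [hC]; simp
    rw [this]
    calc R * C⁻¹ * R = R * (C⁻¹ * (R * C) * C⁻¹) := by simp [mul_assoc]
      _ = R * (C⁻¹ * (C * R) * C⁻¹) := by rw [h]
      _ = R * (R * C⁻¹) := by simp [mul_assoc])
  have hr : pmk B * pmk C = (pmk R : PF) := by rw [← map_mul, hC, mul_inv_cancel_left]
  refine not_isBinary_of_triple ⟨pmk g, trivial, pmk k, trivial, pmk B, pmk C, ?_, ?_, ?_, ?_⟩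
  · rw [← hg, map_mul, map_mul, map_inv]; simp [mul_assoc]
  · rw [← hk, map_mul, map_mul, map_inv]; simp [mul_assoc]
  · rw [hr]; exact Subgroup.mem_zpowers _
  · intro a ha b hb hag hbk hab
    rw [hr, hTI g B hg hne a ha hag, hTI k C hk hCne b hb hbk, one_mul] at hab
    exact hR1 hab.symm

/-- A cyclic subgroup with binary action is trivial, or of order three in characteristic two. -/
theorem cyclic_cases {p : ℕ} [Fact p.Prime] [CharP F p] {r : PF} (hr1 : r ≠ 1)
    (hp : ¬ p ∣ orderOf r) (hb : IsBinary (Subgroup.zpowers r)) :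
    (2 : F) = 0 ∧ orderOf r = 3 ∧ ∃ R : SLF, r = pmk R ∧ tr R = 1 := by
  obtain ⟨R, rfl⟩ := pmk_surjective r
  have ht := tr_sq_ne_four hr1 hp
  have h1 : tr R = -1 := by
    by_contra h
    exact not_isBinary_of_trace ht h hb
  have h2 : (2 : F) = 0 := by
    by_contra h2
    refine not_isBinary_of_trace (R := -R) (by rw [tr_neg, neg_sq]; exact ht) ?_ (by rwa [pmk_neg])
    rw [tr_neg, h1, neg_neg]
    exact fun e => h2 (by linear_combination e)
  have h11 : tr R = 1 := by linear_combination h1 - h2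
  refine ⟨h2, orderOf_eq_prime ?_ hr1, R, rfl, h11⟩
  rw [← map_pow, pmk_eq_one_iff]
  left
  apply Subtype.ext
  have hsq := coe_sq R
  rw [h11, one_smul] at hsq
  rw [Matrix.SpecialLinearGroup.coe_pow, pow_succ, pow_two, hsq, sub_mul, hsq, one_mul]
  ext i j
  fin_cases i <;> fin_cases j <;> simp
  all_goals linear_combination (-(1 : F)) * h2

/-- For `q` large the centraliser of a torus element has elements of large order. -/
theorem exists_centralizing_pow_ne {p : ℕ} [Fact p.Prime] [CharP F p] {c : PF} (hc1 : c ≠ 1)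
    (hp : ¬ p ∣ orderOf c) (m : ℕ)
    (hm : ¬ (Fintype.card F - 1) ∣ 2 * m ∧ ¬ (Fintype.card F + 1) ∣ 2 * m) :
    ∃ g : PF, Commute g c ∧ g ^ m ≠ 1 := by
  obtain ⟨C, rfl⟩ := pmk_surjective c
  have ht := tr_sq_ne_four hc1 hp
  have := isCyclic_centralizer ht
  obtain ⟨γ, hγ⟩ := IsCyclic.exists_generator (α := Subgroup.centralizer ({C} : Set SLF))
  refine ⟨pmk (γ : SLF), (show Commute (γ : SLF) C from
    Subgroup.mem_centralizer_singleton_iff.1 γ.2).map pmk, fun h => ?_⟩
  rw [← map_pow, pmk_eq_one_iff] at h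
  have h2 : (γ : SLF) ^ (2 * m) = 1 := by
    rw [mul_comm, pow_mul]
    rcases h with e | e <;> rw [e] <;> simp
  have ho := orderOf_eq_card_of_forall_mem_zpowers hγ
  rw [← Subgroup.orderOf_coe] at ho
  have hd := orderOf_dvd_of_pow_eq_one h2
  rw [ho] at hd
  by_cases hs : IsSplitTrace (tr C)
  · rw [card_centralizer_split ht hs] at hd; exact hm.1 hd
  · rw [card_centralizer_nonsplit hs] at hd; exact hm.2 hd

end CfsgLib.BinaryPSL
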