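import Cfsg.Agent.BinaryPSL.Facts
import Cfsg.Agent.BinaryPSL.Small
import Cfsg.Agent.BinaryPSL.Torus

/-!
Dihedral, tetrahedral, octahedral and icosahedral subgroups.
-/

set_option autoImplicit false
set_option synthInstance.maxSize 2000
set_option synthInstance.maxHeartbeats 400000

namespace CfsgLib.BinaryPSL

open CfsgLib.SL2

variable {F : Type*} [Field F] [Fintype F]

local notation "SLF" => Matrix.SpecialLinearGroup (Fin 2) F
local notation "PF" => Matrix.ProjectiveSpecialLinearGroup (Fin 2) F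
local notation "A4" => alternatingGroup (Fin 4)
local notation "S4" => Equiv.Perm (Fin 4)
local notation "A5" => alternatingGroup (Fin 5)

theorem odd_seven {h5 : Fintype.card F ≠ 5} (h4 : 4 ≤ Fintype.card F) (h2 : (2 : F) ≠ 0) :
    7 ≤ Fintype.card F := by
  have := SL2.two_ne_zero_iff_odd.1 h2
  rw [Nat.odd_iff] at this
  omega

/-- The involution criterion with the auxiliary involution chosen. -/
theorem not_isBinary_inv (h4 : 4 ≤ Fintype.card F) (h5 : Fintype.card F ≠ 5) {H : Subgroup PF} {a : PF}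
    (ha : a ∈ H) (ha2 : a * a = 1) (ha1 : a ≠ 1)
    (hinv : ∀ x ∈ H, x * x ≠ 1 → a * x * a = x⁻¹)
    (hcomm : ∀ x ∈ H, ∀ y ∈ H, x * x ≠ 1 → y * y ≠ 1 → Commute x y)
    (hK : ∀ x ∈ H, ∀ y ∈ H, x * x = 1 → y * y = 1 → Commute x y → x = 1 ∨ y = 1 ∨ x = y) :
    ¬ IsBinary H := by
  obtain ⟨b, hb2, hb1, hba, hab, havoid⟩ : ∃ b : PF, b * b = 1 ∧ b ≠ 1 ∧ b ≠ a ∧ Commute a b ∧
      ∀ x ∈ H, x * x ≠ 1 → ¬ Commute b x ∧ ¬ Commute (a * b) x := by
    by_cases hx : ∃ x ∈ H, x * x ≠ 1
    · obtain ⟨x₀, hx₀, hx₀2⟩ := hx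
      obtain ⟨b, hb2, hb1, hba, hab, hbx, habx⟩ := exists_involution_inv h4 h5 ha2 ha1 hx₀2
      exact ⟨b, hb2, hb1, hba, hab, fun x hx hx2 =>
        ⟨fun h => hbx (psl_ca x _ x₀ hx2 h.symm (hcomm x hx x₀ hx₀ hx2 hx₀2)),
          fun h => habx (psl_ca x _ x₀ hx2 h.symm (hcomm x hx x₀ hx₀ hx2 hx₀2))⟩⟩
    · by_cases h2 : (2 : F) = 0
      · obtain ⟨b, hb2, hb1, hba, hab⟩ := exists_involution_even h2 h4 ha2 ha1
        exact ⟨b, hb2, hb1, hba, hab, fun x hx' hx2 => absurd ⟨x, hx', hx2⟩ hx⟩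
      · obtain ⟨b, hb2, hb1, hba, hab, -, -⟩ :=
          exists_involution_avoid h2 (odd_seven (h5 := h5) h4 h2) ha2 ha1 1 1
        exact ⟨b, hb2, hb1, hba, hab, fun x hx' hx2 => absurd ⟨x, hx', hx2⟩ hx⟩
  have hab2 : a * b * (a * b) = 1 := by
    rw [mul_assoc, ← mul_assoc b a b, ← hab.eq, mul_assoc a b b, hb2, mul_one, ha2]
  have hab1 : a * b ≠ 1 := fun e => hba <| by
    calc b = a * (a * b) := by rw [← mul_assoc, ha2, one_mul]
      _ = a := by rw [e, mul_one]
  obtain ⟨g, hg⟩ := exists_conj_involution ha2 ha1 hb2 hb1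
  obtain ⟨k, hk⟩ := exists_conj_involution ha2 ha1 hab2 hab1
  exact not_isBinary_of_inv ha ha2 ha1 hb2 hb1 hba hab hg hk hinv hK havoid

/-- The centraliser criterion with the auxiliary elements chosen. -/
theorem not_isBinary_cent (h4 : 4 ≤ Fintype.card F) (h5 : Fintype.card F ≠ 5) (h2 : (2 : F) ≠ 0)
    {H : Subgroup PF} {z a : PF} (hz2 : z * z = 1) (hz1 : z ≠ 1) (ha : a ∈ H) (ha2 : a * a = 1)
    (ha1 : a ≠ 1) (hza : z ≠ a) (haz : Commute a z)
    (hinvol : ∀ x ∈ H, x * x = 1 → Commute x z)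
    (hB : ∀ g : PF, g * a * g⁻¹ ∉ H → ∀ x ∈ H, g⁻¹ * x * g ∈ H →
      Commute x z ∧ Commute (g⁻¹ * x * g) z) : ¬ IsBinary H := by
  have h7 := odd_seven (h5 := h5) h4 h2
  obtain ⟨b, hb2, hb1, hba, hab, hbt, hbt'⟩ := exists_involution_avoid h2 h7 ha2 ha1 z (a * z)
  have hbz : ¬ Commute b z := fun h => by
    rcases psl_klein h2 a z b ha2 hz2 ha1 hz1 (Ne.symm hza) haz hab.symm h with e | e | e | e
    · exact hb1 e
    · exact hba e
    · exact hbt e
    · exact hbt' e
  have hab2 : a * b * (a * b) = 1 := by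
    rw [mul_assoc, ← mul_assoc b a b, ← hab.eq, mul_assoc a b b, hb2, mul_one, ha2]
  have hab1 : a * b ≠ 1 := fun e => hba <| by
    calc b = a * (a * b) := by rw [← mul_assoc, ha2, one_mul]
      _ = a := by rw [e, mul_one]
  have habz : ¬ Commute (a * b) z := fun h => hbz (by
    have := haz.mul_left h
    rwa [← mul_assoc, ha2, one_mul] at this)
  obtain ⟨g, hg, hg1, hg2⟩ := exists_conj_avoid h2 h7 hz2 hz1 ha2 ha1 hza haz hb2 hb1 hab hbz
  obtain ⟨k, hk, hk1, hk2⟩ := exists_conj_avoid h2 h7 hz2 hz1 ha2 ha1 hza haz hab2 hab1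
    ((Commute.refl a).mul_right hab) habz
  have hk2' : k * z * k⁻¹ ≠ b := by rwa [← mul_assoc, ha2, one_mul] at hk2
  have key : ∀ (d e : PF), d * a * d⁻¹ = e → ¬ Commute e z → e * e = 1 → ∀ x ∈ H,
      d⁻¹ * x * d ∈ H → Commute x z ∧ Commute x (d * z * d⁻¹) := by
    intro d e hd hez he2 x hx hxd
    obtain ⟨h1, h2⟩ := hB d (fun h => hez (hinvol e (hd ▸ h) he2)) x hx hxd
    refine ⟨h1, ?_⟩
    simpa [mul_assoc] using h2.map (MulAut.conj d).toMonoidHom
  exact not_isBinary_of_cent (centralizerFacts h2) hz2 hz1 ha ha2 ha1 hza haz hb2 hb1 hab hbz hg hk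
    ⟨hg1, hg2⟩ ⟨hk1, hk2'⟩ (key g b hg hbz hb2) (key k _ hk habz hab2)

/-! ### Dihedral subgroups -/

theorem two_mul_eq_zero_of_even {n : ℕ} [NeZero n] (hn : n % 2 = 1) {i : ZMod n} (h : i + i = 0) :
    i = 0 := by
  have hu : IsUnit ((2 : ℕ) : ZMod n) := by
    rw [ZMod.isUnit_iff_coprime]
    exact (Nat.Prime.coprime_iff_not_dvd Nat.prime_two).2 (by omega)
  exact hu.mul_left_cancel (b := i) (c := 0) (by rw [mul_zero]; push_cast; rw [two_mul, h])

theorem not_isBinary_dihedral (h4 : 4 ≤ Fintype.card F) (h5 : Fintype.card F ≠ 5) {p : ℕ}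
    [Fact p.Prime] [CharP F p] {H : Subgroup PF} {n : ℕ} (hn : 2 ≤ n) (hpn : ¬ p ∣ n)
    (i : H ≃* DihedralGroup n) : ¬ IsBinary H := by
  haveI : NeZero n := ⟨by omega⟩
  let f : DihedralGroup n →* PF := H.subtype.comp i.symm.toMonoidHom
  have hf : Function.Injective f := H.subtype_injective.comp i.symm.injective
  have hmem : ∀ d, f d ∈ H := fun d => (i.symm d).2
  have hrep : ∀ x ∈ H, ∃ d, x = f d := fun x hx => ⟨i ⟨x, hx⟩, by simp [f]⟩
  have hcomm : ∀ d e, Commute d e → Commute (f d) (f e) := fun d e h => h.map f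
  have hr : ∀ j k : ZMod n, Commute (DihedralGroup.r j) (DihedralGroup.r k) := fun j k => by
    simp [Commute, SemiconjBy, add_comm]
  have hsr : ∀ j : ZMod n, f (DihedralGroup.sr j) * f (DihedralGroup.sr j) = 1 := fun j => by
    rw [← map_mul, DihedralGroup.sr_mul_sr, sub_self, DihedralGroup.r_zero, map_one]
  have ha2 := hsr 0
  have ha1 : f (DihedralGroup.sr 0) ≠ 1 := fun e => by
    have := hf (e.trans (map_one f).symm)
    rw [DihedralGroup.one_def] at this
    cases this
  rcases Nat.even_or_odd n with he | ho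
  · -- a central involution
    have h2 : (2 : F) ≠ 0 := fun h => hpn (by
      have : CharP F 2 := CharTwo.of_one_ne_zero_of_two_eq_zero one_ne_zero h
      rw [CharP.eq F ‹CharP F p› this]
      exact even_iff_two_dvd.1 he)
    obtain ⟨m, hm⟩ := he
    have hmm : (m : ZMod n) + m = 0 := by rw [← Nat.cast_add, ← hm, ZMod.natCast_self]
    have hm0 : (m : ZMod n) ≠ 0 := fun h => by
      have := Nat.le_of_dvd (by omega) ((CharP.cast_eq_zero_iff (ZMod n) n m).1 h)
      omega
    have hcen : ∀ d, Commute d (DihedralGroup.r (m : ZMod n)) := by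
      intro d
      cases d with
      | r j => exact hr j _
      | sr j =>
        simp [Commute, SemiconjBy]
        linear_combination hmm
    have hzc : ∀ x ∈ H, Commute x (f (DihedralGroup.r (m : ZMod n))) := fun x hx => by
      obtain ⟨d, rfl⟩ := hrep x hx
      exact hcomm _ _ (hcen d)
    refine not_isBinary_cent h4 h5 h2 (z := f (DihedralGroup.r (m : ZMod n)))
      (by rw [← map_mul, DihedralGroup.r_mul_r, hmm, DihedralGroup.r_zero, map_one])
      (fun e => hm0 ?_) (hmem _) ha2 ha1 (fun e => by cases hf e)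
      (hcomm _ _ (hcen _)) (fun x hx _ => hzc x hx) fun g _ x hx hxg => ⟨hzc x hx, hzc _ hxg⟩
    have := hf (e.trans (map_one f).symm)
    rw [DihedralGroup.one_def] at this
    exact DihedralGroup.r.inj this
  · rw [Nat.odd_iff] at ho
    refine not_isBinary_inv h4 h5 (hmem _) ha2 ha1 ?_ ?_ ?_
    · intro x hx hx2
      obtain ⟨d, rfl⟩ := hrep x hx
      cases d with
      | r j =>
        rw [← map_mul, ← map_mul, ← map_inv]
        simp
      | sr j => exact absurd (hsr j) hx2
    · intro x hx y hy hx2 hy2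
      obtain ⟨d, rfl⟩ := hrep x hx
      obtain ⟨e, rfl⟩ := hrep y hy
      cases d with
      | sr j => exact absurd (hsr j) hx2
      | r j =>
        cases e with
        | sr k => exact absurd (hsr k) hy2
        | r k => exact hcomm _ _ (hr j k)
    · intro x hx y hy hx2 hy2 hc
      obtain ⟨d, rfl⟩ := hrep x hx
      obtain ⟨e, rfl⟩ := hrep y hy
      have hrot : ∀ j : ZMod n, f (DihedralGroup.r j) * f (DihedralGroup.r j) = 1 →
          f (DihedralGroup.r j) = 1 := fun j hj => by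
        rw [← map_mul, DihedralGroup.r_mul_r] at hj
        have := hf (hj.trans (map_one f).symm)
        rw [DihedralGroup.one_def] at this
        rw [two_mul_eq_zero_of_even ho (DihedralGroup.r.inj this), DihedralGroup.r_zero, map_one]
      cases d with
      | r j => exact Or.inl (hrot j hx2)
      | sr j =>
        cases e with
        | r k => exact Or.inr (Or.inl (hrot k hy2))
        | sr k =>
          refine Or.inr (Or.inr ?_)
          have hde : DihedralGroup.sr j * DihedralGroup.sr k = DihedralGroup.sr k * DihedralGroup.sr j :=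
            hf (by rw [map_mul, map_mul]; exact hc)
          simp only [DihedralGroup.sr_mul_sr] at hde
          have hkj := two_mul_eq_zero_of_even ho (i := k - j) (by linear_combination DihedralGroup.r.inj hde)
          rw [sub_eq_zero.1 hkj]

/-! ### `A₄` -/

theorem a4_involutions : (∀ x y : A4, x * x = 1 → y * y = 1 → Commute x y) ∧
    (∃ z a : A4, z * z = 1 ∧ z ≠ 1 ∧ a * a = 1 ∧ a ≠ 1 ∧ z ≠ a) ∧
    (∀ x : A4, x * x = 1 ∨ x ^ 3 = 1) := by
  refine ⟨by simp only [Commute, SemiconjBy]; decide +kernel, by decide +kernel, by decide +kernel⟩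

theorem a4_three_count : 8 ≤ (Finset.univ.filter fun x : A4 => x ^ 3 = 1 ∧ x ≠ 1).card := by
  decide +kernel

theorem not_isBinary_a4 (h4 : 4 ≤ Fintype.card F) (h5 : Fintype.card F ≠ 5) (h2 : (2 : F) ≠ 0)
    {H : Subgroup PF} (i : H ≃* A4) : ¬ IsBinary H := by
  classical
  let f : A4 →* PF := H.subtype.comp i.symm.toMonoidHom
  have hf : Function.Injective f := H.subtype_injective.comp i.symm.injective
  have hrange : (⊤ : Subgroup A4).map f = H := by
    rw [← MonoidHom.range_eq_map, MonoidHom.range_comp,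
      MonoidHom.range_eq_top.mpr (show Function.Surjective i.symm.toMonoidHom from i.symm.surjective),
      ← MonoidHom.range_eq_map, Subgroup.range_subtype]
  have hrep : ∀ x ∈ H, ∃ d, x = f d := fun x hx => ⟨i ⟨x, hx⟩, by simp [f]⟩
  obtain ⟨hc, ⟨z, a, hz2, hz1, ha2, ha1, hza⟩, h23⟩ := a4_involutions
  by_cases hX : ∃ g : PF, ¬ H ≤ H.map (MulAut.conj g).toMonoidHom ∧
      ∃ c ∈ H, g⁻¹ * c * g ∈ H ∧ c * c ≠ 1
  · obtain ⟨g, hg, c, hcH, hcg, hc2⟩ := hX
    obtain ⟨c', rfl⟩ := hrep c hcH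
    have hc3 : c' ^ 3 = 1 := (h23 c').resolve_left fun h => hc2 (by rw [← map_mul, h, map_one])
    have hc1 : c' ≠ 1 := fun h => hc2 (by rw [h, map_one, one_mul])
    set X := (H ⊓ H.map (MulAut.conj g).toMonoidHom).comap f with hX
    have hcX : c' ∈ X := Subgroup.mem_comap.2 (Subgroup.mem_inf.2 ⟨hcH, by
      rw [Subgroup.mem_map_equiv]; simpa using hcg⟩)
    have hXtop : X ≠ ⊤ := fun h => hg fun x hx => by
      obtain ⟨d, rfl⟩ := hrep x hx
      exact (Subgroup.mem_inf.1 (Subgroup.mem_comap.1 (h ▸ Subgroup.mem_top d : d ∈ X))).2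
    have ho : orderOf c' = 3 := orderOf_eq_prime hc3 hc1
    have hXc : X = Subgroup.zpowers c' := by
      refine (Subgroup.eq_of_le_of_card_ge (Subgroup.zpowers_le.2 hcX) ?_).symm
      rw [Nat.card_zpowers, ho]
      have h3 : 3 ∣ Nat.card X := ho ▸ Subgroup.orderOf_dvd_natCard X hcX
      have hmul := Subgroup.card_mul_index X
      rw [CfsgLib.Dickson.card_alt_four] at hmul
      have hidx : X.index ≠ 1 := fun h => hXtop (Subgroup.index_eq_one.1 h)
      have h12 : Nat.card X ∣ 12 := Dvd.intro _ hmul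
      have hne : X.index ≠ 2 := fun h => by
        haveI := Subgroup.normal_of_index_eq_two h
        have hsub : ∀ x : A4, x ^ 3 = 1 → x ∈ X := fun x hx => by
          have := Subgroup.sq_mem_of_index_two h (x * x)
          rwa [show (x * x) ^ 2 = x ^ 3 * x by simp [pow_succ, mul_assoc], hx, one_mul] at this
        have hle : (Finset.univ.filter fun x : A4 => x ^ 3 = 1 ∧ x ≠ 1) ⊆
            Finset.univ.filter fun x => x ∈ X := fun x hx =>
          Finset.mem_filter.2 ⟨Finset.mem_univ _, hsub x (Finset.mem_filter.1 hx).2.1⟩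
        have := a4_three_count.trans (Finset.card_le_card hle)
        rw [← Fintype.card_subtype, ← Nat.card_eq_fintype_card] at this
        change 8 ≤ Nat.card X at this
        rw [h] at hmul
        omega
      obtain ⟨k, hk⟩ := h3
      rw [hk] at hmul h12 ⊢
      have : k ≤ 4 := by have := Nat.le_of_dvd (by norm_num) h12; omega
      interval_cases k <;> omega
    refine not_isBinary_of_suborbit_triple g ?_
    have := (triple_alt_four hc3 hc1).map hf
    rwa [hrange, ← hXc, hX, Subgroup.map_comap_eq, MonoidHom.range_eq_map, hrange, ← inf_assoc,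
      inf_idem] at this
  · push Not at hX
    have hcz : ∀ x ∈ H, x * x = 1 → Commute x (f z) := fun x hx hx2 => by
      obtain ⟨d, rfl⟩ := hrep x hx
      exact (hc d z (hf (by rw [map_mul, hx2, map_one])) hz2).map f
    refine not_isBinary_cent h4 h5 h2 (z := f z) (a := f a)
      (by rw [← map_mul, hz2, map_one]) (fun e => hz1 (hf (e.trans (map_one f).symm)))
      ((i.symm a).2) (by rw [← map_mul, ha2, map_one]) (fun e => ha1 (hf (e.trans (map_one f).symm)))
      (fun e => hza (hf e)) ((hc a z ha2 hz2).map f) hcz fun g hg x hx hxg => ?_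
    have hle : ¬ H ≤ H.map (MulAut.conj g).toMonoidHom := fun hle => hg (by
      have heq : H.map (MulAut.conj g).toMonoidHom = H :=
        (Subgroup.eq_of_le_of_card_ge hle
          (Subgroup.card_map_of_injective (MulAut.conj g).injective).le).symm
      have := Subgroup.mem_map_of_mem (MulAut.conj g).toMonoidHom ((i.symm a).2)
      rw [heq] at this
      simpa [f] using this)
    have hx2 := hX g hle x hx hxg
    refine ⟨hcz x hx hx2, hcz _ hxg ?_⟩
    calc g⁻¹ * x * g * (g⁻¹ * x * g) = g⁻¹ * (x * x) * g := by simp [mul_assoc]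
      _ = 1 := by rw [hx2]; simp

/-! ### `S₄` -/

theorem s4_facts : (∀ x t : S4, x ^ 3 = 1 → x ≠ 1 → t * t = 1 → t ≠ 1 → t * x ≠ x * t) ∧
    (∀ c g : S4, c ^ 3 = 1 → c ≠ 1 → g * c = c * g → g ∈ [1, c, c * c]) ∧
    (∀ c v v' : S4, c ^ 3 = 1 → c ≠ 1 → v * v = 1 → v ≠ 1 → v.sign = 1 → v' * v' = 1 → v' ≠ 1 →
      v'.sign = 1 → ∃ j ∈ [1, c, c * c], j * v * j⁻¹ = v') := by
  refine ⟨?_, ?_, ?_⟩ <;> decide +kernel

theorem s4_commutator : ∀ v : S4, v * v = 1 → v.sign = 1 →
    ∃ y z : S4, v = (y * y) * (z * z) * (y * y)⁻¹ * (z * z)⁻¹ := by decide +kernel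

/-- The even involutions of `H ≅ S₄` are permuted by conjugations that keep half of `H`. -/
theorem s4_even_involution {H : Subgroup PF} (i : H ≃* S4) {g : PF} {v : S4}
    (hX : ((H ⊓ H.map (MulAut.conj g).toMonoidHom).comap
      (H.subtype.comp i.symm.toMonoidHom)).index ≤ 2) (hv : v * v = 1) (hsv : v.sign = 1) :
    ∃ v' : S4, v' * v' = 1 ∧ v'.sign = 1 ∧ g⁻¹ * (i.symm v : PF) * g = (i.symm v' : PF) := by
  set f := H.subtype.comp i.symm.toMonoidHom with hfd
  set X := (H ⊓ H.map (MulAut.conj g).toMonoidHom).comap f with hXd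
  have hsq : ∀ y : S4, y * y ∈ X := fun y => by
    rcases (show X.index = 1 ∨ X.index = 2 by
      have := Subgroup.index_ne_zero_of_finite (H := X); omega) with h | h
    · rw [Subgroup.index_eq_one.1 h]; trivial
    · rw [← pow_two]; exact Subgroup.sq_mem_of_index_two h y
  have hpull : ∀ x ∈ X, ∃ x' : S4, g⁻¹ * f x * g = f x' := fun x hx => by
    have h := (Subgroup.mem_inf.1 (Subgroup.mem_comap.1 hx)).2
    rw [Subgroup.mem_map_equiv] at h
    exact ⟨i ⟨g⁻¹ * f x * g, by simpa using h⟩, by simp [hfd]⟩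
  obtain ⟨y, z, hyz⟩ := s4_commutator v hv hsv
  obtain ⟨y', hy'⟩ := hpull _ (hsq y)
  obtain ⟨z', hz'⟩ := hpull _ (hsq z)
  have he : g⁻¹ * f v * g = f (y' * z' * y'⁻¹ * z'⁻¹) := by
    simp only [map_mul, map_inv, ← hy', ← hz', hyz, mul_inv_rev, inv_inv, mul_assoc,
      mul_inv_cancel_left]
  refine ⟨_, ?_, ?_, he⟩
  · refine H.subtype_injective.comp i.symm.injective ?_
    show f _ = f 1
    rw [map_mul, ← he, map_one]
    calc g⁻¹ * f v * g * (g⁻¹ * f v * g) = g⁻¹ * f (v * v) * g := by simp [mul_assoc]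
      _ = 1 := by rw [hv]; simp
  · simp only [map_mul, Equiv.Perm.sign_inv]
    rcases Int.units_eq_one_or y'.sign with h | h <;> rcases Int.units_eq_one_or z'.sign with h' | h' <;>
      simp [h, h']

/-- `S₄` with a large centraliser of an element of order three. -/
theorem not_isBinary_s4 (h2 : (2 : F) ≠ 0) {H : Subgroup PF} (i : H ≃* S4) {c g : PF} (hcH : c ∈ H)
    (hc3 : c ^ 3 = 1) (hc1 : c ≠ 1) (hgc : Commute g c) (hg : g * g ∉ Subgroup.zpowers c) :
    ¬ IsBinary H := by
  classical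
  let f : S4 →* PF := H.subtype.comp i.symm.toMonoidHom
  have hf : Function.Injective f := H.subtype_injective.comp i.symm.injective
  have hrange : (⊤ : Subgroup S4).map f = H := by
    rw [← MonoidHom.range_eq_map, MonoidHom.range_comp,
      MonoidHom.range_eq_top.mpr (show Function.Surjective i.symm.toMonoidHom from i.symm.surjective),
      ← MonoidHom.range_eq_map, Subgroup.range_subtype]
  have hrep : ∀ x ∈ H, ∃ d, x = f d := fun x hx => ⟨i ⟨x, hx⟩, by simp [f]⟩
  obtain ⟨hcen, hcc, hperm⟩ := s4_facts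
  obtain ⟨c', rfl⟩ := hrep c hcH
  have hc3' : c' ^ 3 = 1 := hf (by rw [map_pow, hc3, map_one])
  have hc1' : c' ≠ 1 := fun h => hc1 (by rw [h, map_one])
  have ho : orderOf c' = 3 := orderOf_eq_prime hc3' hc1'
  have hc2 : f c' * f c' ≠ 1 := fun h => hc1 (by
    rw [pow_succ, pow_two, h, one_mul] at hc3; exact hc3)
  have hcz : ∀ x ∈ H, Commute x (f c') → x ∈ Subgroup.zpowers (f c') := fun x hx h => by
    obtain ⟨d, rfl⟩ := hrep x hx
    rw [← MonoidHom.map_zpowers]
    exact Subgroup.mem_map_of_mem f ((mem_zpowers_three hc3').2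
      (hcc c' d hc3' hc1' (hf (by rw [map_mul, map_mul]; exact h))))
  set X := (H ⊓ H.map (MulAut.conj g).toMonoidHom).comap f with hX
  have hXB : ∀ x ∈ X, g⁻¹ * f x * g ∈ H := fun x hx => by
    have h := (Subgroup.mem_inf.1 (Subgroup.mem_comap.1 hx)).2
    rw [Subgroup.mem_map_equiv] at h
    simpa using h
  have hcX : c' ∈ X := Subgroup.mem_comap.2 (Subgroup.mem_inf.2 ⟨hcH, by
    rw [Subgroup.mem_map_equiv]
    simpa [mul_assoc, ← hgc.eq] using hcH⟩)
  -- no inverting element lies in `X`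
  have hno : ∀ t ∈ X, t * c' * t⁻¹ ≠ c'⁻¹ := fun t ht e => hg (hcz _ ?_ ?_)
  · -- `X` is small
    have h3 : 3 ∣ Nat.card X := ho ▸ Subgroup.orderOf_dvd_natCard X hcX
    have hmul := Subgroup.card_mul_index X
    rw [show Nat.card S4 = 24 by rw [Nat.card_perm, Nat.card_fin]; rfl] at hmul
    have h24 : Nat.card X ∣ 24 := Dvd.intro _ hmul
    by_cases hbig : X.index ≤ 2
    · exfalso
      set w : S4 := Equiv.swap 0 1 * Equiv.swap 2 3
      have hw : w * w = 1 ∧ w ≠ 1 ∧ w.sign = 1 := by decide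
      obtain ⟨v', hv'2, hv's, he⟩ := s4_even_involution i hbig hw.1 hw.2.2
      have hv'1 : v' ≠ 1 := fun h => hw.2.1 (hf (by
        rw [map_one]
        have h' : g⁻¹ * f w * g = 1 := by
          rw [show f w = ((i.symm w : H) : PF) from rfl, he, h, map_one, Subgroup.coe_one]
        simpa [mul_assoc] using congrArg (fun z => g * z * g⁻¹) h'))
      obtain ⟨j, hj, hjv⟩ := hperm c' v' w hc3' hc1' hv'2 hv'1 hv's hw.1 hw.2.1 hw.2.2
      set h := g * f j⁻¹ with hh
      have hjc : Commute j c' := by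
        rcases List.mem_cons.1 hj with rfl | hj
        · exact Commute.one_left _
        rcases List.mem_cons.1 hj with rfl | hj
        · exact Commute.refl _
        rw [List.mem_singleton.1 hj]
        exact (Commute.refl c').mul_left (Commute.refl c')
      have hhc : Commute h (f c') := hgc.mul_left (hjc.inv_left.map f)
      have hhw : Commute h (f w) := by
        have he' : g⁻¹ * f w * g = f v' := he
        show g * f j⁻¹ * f w = f w * (g * f j⁻¹)
        have : f j⁻¹ * f w = f v' * f j⁻¹ := by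
          rw [← map_mul, ← map_mul, ← hjv]; simp [mul_assoc]
        rw [mul_assoc, this, ← he']
        simp [mul_assoc]
      set u := f (c' * w * c'⁻¹) with hu
      have hhu : Commute h u := by
        rw [hu, map_mul, map_mul, map_inv]
        exact (hhc.mul_right hhw).mul_right hhc.inv_right
      have hfacts : (c' * w * c'⁻¹) * (c' * w * c'⁻¹) = 1 ∧ c' * w * c'⁻¹ ≠ 1 ∧
          (c' * w * c'⁻¹) ≠ w ∧ Commute w (c' * w * c'⁻¹) := by
        have : ∀ c : S4, c ^ 3 = 1 → c ≠ 1 → (c * w * c⁻¹) * (c * w * c⁻¹) = 1 ∧ c * w * c⁻¹ ≠ 1 ∧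
            c * w * c⁻¹ ≠ w ∧ w * (c * w * c⁻¹) = c * w * c⁻¹ * w := by decide +kernel
        exact this c' hc3' hc1'
      have hhH : h ∈ H := by
        have hfw : f w ∈ H := (i.symm w).2
        have hfu : u ∈ H := (i.symm _).2
        rcases psl_klein h2 (f w) u h (by rw [← map_mul, hw.1, map_one])
          (by rw [hu, ← map_mul, hfacts.1, map_one]) (fun e => hw.2.1 (hf (e.trans (map_one f).symm)))
          (fun e => hfacts.2.1 (hf (e.trans (map_one f).symm))) (fun e => hfacts.2.2.1 (hf e).symm)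
          (hfacts.2.2.2.map f) hhw hhu with e | e | e | e <;> rw [e]
        · exact one_mem H
        · exact hfw
        · exact hfu
        · exact mul_mem hfw hfu
      have hgz : g ∈ Subgroup.zpowers (f c') := by
        refine hcz g ?_ hgc
        have := mul_mem hhH (i.symm j).2
        rwa [hh, show ((i.symm j : H) : PF) = f j from rfl, mul_assoc, ← map_mul, inv_mul_cancel,
          map_one, mul_one] at this
      exact hg (mul_mem hgz hgz)
    have hsix : Nat.card X ≠ 6 := fun h6 => by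
      haveI : Fact (Nat.Prime 2) := ⟨Nat.prime_two⟩
      obtain ⟨t, ht⟩ := exists_prime_orderOf_dvd_card' (G := X) 2 (by rw [h6]; norm_num)
      have hnorm : ((Subgroup.zpowers (⟨c', hcX⟩ : X))).Normal := by
        refine Subgroup.normal_of_index_eq_two ?_
        have := Subgroup.card_mul_index (Subgroup.zpowers (⟨c', hcX⟩ : X))
        rw [Nat.card_zpowers, ← Subgroup.orderOf_coe, ho, h6] at this
        omega
      have hm : (t : S4) * c' * (t : S4)⁻¹ ∈ Subgroup.zpowers c' := by
        obtain ⟨k, hk⟩ := hnorm.conj_mem _ (Subgroup.mem_zpowers _) t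
        exact ⟨k, by simpa using congrArg Subtype.val hk⟩
      have ht2 : (t : S4) * t = 1 := by
        rw [← Subgroup.coe_mul, ← pow_two, orderOf_dvd_iff_pow_eq_one.1 (dvd_of_eq ht), Subgroup.coe_one]
      have ht1 : (t : S4) ≠ 1 := fun e => by
        rw [← Subgroup.orderOf_coe, e, orderOf_one] at ht; norm_num at ht
      rcases List.mem_cons.1 ((mem_zpowers_three hc3').1 hm) with e | e
      · exact hc1' (conj_eq_one_iff.1 e)
      rcases List.mem_cons.1 e with e | e
      · exact hcen c' t hc3' hc1' ht2 ht1 (mul_inv_eq_iff_eq_mul.1 e)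
      · refine hno t t.2 ?_
        rw [List.mem_singleton.1 e, eq_inv_iff_mul_eq_one, mul_assoc, ← pow_two, ← pow_succ', hc3']
    have hXc : X = Subgroup.zpowers c' := by
      refine (Subgroup.eq_of_le_of_card_ge (Subgroup.zpowers_le.2 hcX) ?_).symm
      rw [Nat.card_zpowers, ho]
      obtain ⟨k, hk⟩ := h3
      rw [hk] at hmul h24 hsix ⊢
      have : k ≤ 8 := by have := Nat.le_of_dvd (by norm_num) h24; omega
      interval_cases k <;> omega
    refine not_isBinary_of_suborbit_triple g ?_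
    have := (triple_sym_four hc3' hc1').map hf
    rwa [hrange, ← hXc, hX, Subgroup.map_comap_eq, MonoidHom.range_eq_map, hrange, ← inf_assoc,
      inf_idem] at this
  · have h1 := inverts_centralizer hc2 hgc (t := f t) (by rw [← map_inv, ← map_mul, ← map_mul, e, map_inv])
    have h2 := mul_mem (i.symm t).2 (inv_mem (hXB t ht))
    have he : f t * (g⁻¹ * f t * g)⁻¹ = f t * g⁻¹ * (f t)⁻¹ * g := by simp [mul_assoc]
    have h3 : f t * g⁻¹ * (f t)⁻¹ = g := by
      have := congrArg (·⁻¹) h1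
      simpa [mul_assoc] using this
    rw [show ((i.symm t : H) : PF) = f t from rfl, he, h3] at h2
    exact h2
  · exact hgc.mul_left hgc

/-! ### `A₅` -/

theorem a5_facts : ∀ c : A5, c ^ 3 = 1 → c ≠ 1 → ∀ d : A5, d * c = c * d → d ∈ [1, c, c * c] := by
  decide +kernel

theorem a5_inverting : ∀ c : A5, c ^ 3 = 1 → c ≠ 1 → ∃ t : A5, t * c * t⁻¹ = c⁻¹ := by
  decide +kernel

/-- An icosahedral subgroup that is moved by a conjugation centralising an element of order three. -/
theorem not_isBinary_a5 {H : Subgroup PF} (i : H ≃* A5) {c g : PF} (hcH : c ∈ H) (hc3 : c ^ 3 = 1)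
    (hc1 : c ≠ 1) (hgc : Commute g c) (hg : ¬ H ≤ H.map (MulAut.conj g).toMonoidHom) :
    ¬ IsBinary H := by
  let f : A5 →* PF := H.subtype.comp i.symm.toMonoidHom
  have hf : Function.Injective f := H.subtype_injective.comp i.symm.injective
  have hrange : (⊤ : Subgroup A5).map f = H := by
    rw [← MonoidHom.range_eq_map, MonoidHom.range_comp,
      MonoidHom.range_eq_top.mpr (show Function.Surjective i.symm.toMonoidHom from i.symm.surjective),
      ← MonoidHom.range_eq_map, Subgroup.range_subtype]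
  have hrep : ∀ x ∈ H, ∃ d, x = f d := fun x hx => ⟨i ⟨x, hx⟩, by simp [f]⟩
  obtain ⟨c', rfl⟩ := hrep c hcH
  have hc3' : c' ^ 3 = 1 := hf (by rw [map_pow, hc3, map_one])
  have hc1' : c' ≠ 1 := fun h => hc1 (by rw [h, map_one])
  set X := (H ⊓ H.map (MulAut.conj g).toMonoidHom).comap f with hX
  have hcX : c' ∈ X := Subgroup.mem_comap.2 (Subgroup.mem_inf.2 ⟨hcH, by
    rw [Subgroup.mem_map_equiv]
    simpa [mul_assoc, ← hgc.eq] using hcH⟩)
  rcases alt_five_over_three hc3' hc1' hcX with h | h | h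
  · refine not_isBinary_of_suborbit_triple g ?_
    have := h.map hf
    rwa [hrange, hX, Subgroup.map_comap_eq, MonoidHom.range_eq_map, hrange, ← inf_assoc,
      inf_idem] at this
  · intro hb
    refine not_isBinary_alt_five h ?_
    have hb' := (hb.suborbit g).map i
    convert hb' using 1
    ext x
    rw [hX, Subgroup.mem_comap, Subgroup.mem_inf, Subgroup.mem_map_equiv (f := i),
      Subgroup.mem_subgroupOf]
    exact ⟨fun h => h.2, fun h => ⟨(i.symm x).2, h⟩⟩
  · refine absurd (fun x hx => ?_) hg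
    obtain ⟨d, rfl⟩ := hrep x hx
    exact (Subgroup.mem_inf.1 (Subgroup.mem_comap.1 (h ▸ Subgroup.mem_top d : d ∈ X))).2

/-- A conjugation by an element of large order moves an icosahedral subgroup. -/
theorem a5_moved {H : Subgroup PF} (i : H ≃* A5) {c g : PF} (hcH : c ∈ H) (hc3 : c ^ 3 = 1)
    (hc1 : c ≠ 1) (hgc : Commute g c) (hg : g * g ∉ Subgroup.zpowers c) :
    ¬ H ≤ H.map (MulAut.conj g).toMonoidHom := by
  intro hle
  let f : A5 →* PF := H.subtype.comp i.symm.toMonoidHom
  have hf : Function.Injective f := H.subtype_injective.comp i.symm.injective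
  obtain ⟨c', rfl⟩ : ∃ d, c = f d := ⟨i ⟨c, hcH⟩, by simp [f]⟩
  have hc3' : c' ^ 3 = 1 := hf (by rw [map_pow, hc3, map_one])
  have hc1' : c' ≠ 1 := fun h => hc1 (by rw [h, map_one])
  have hc2 : f c' * f c' ≠ 1 := fun h => hc1 (by
    rw [pow_succ, pow_two, h, one_mul] at hc3; exact hc3)
  obtain ⟨t, ht⟩ := a5_inverting c' hc3' hc1'
  have h1 := inverts_centralizer hc2 hgc (t := f t) (by rw [← map_inv, ← map_mul, ← map_mul, ht, map_inv])
  have hgt : g⁻¹ * f t * g ∈ H := by
    have := hle (i.symm t).2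
    rw [Subgroup.mem_map_equiv] at this
    simpa [f] using this
  have h2 := mul_mem (i.symm t).2 (inv_mem hgt)
  have he : f t * (g⁻¹ * f t * g)⁻¹ = f t * g⁻¹ * (f t)⁻¹ * g := by simp [mul_assoc]
  have h3 : f t * g⁻¹ * (f t)⁻¹ = g := by
    have := congrArg (·⁻¹) h1
    simpa [mul_assoc] using this
  rw [show ((i.symm t : H) : PF) = f t from rfl, he, h3] at h2
  have hd : f (i ⟨_, h2⟩) = g * g := by simp [f]
  refine hg (hd ▸ ?_)
  rw [← MonoidHom.map_zpowers]
  refine Subgroup.mem_map_of_mem f ((mem_zpowers_three hc3').2 (a5_facts c' hc3' hc1' _ (hf ?_)))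
  rw [map_mul, map_mul, hd]
  exact hgc.mul_left hgc

end CfsgLib.BinaryPSL
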