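import Cfsg.Agent.BinaryPSL.Facts
import Cfsg.Agent.Dickson.Subfield
import Cfsg.Agent.Dickson.PSL

/-!
Subfield subgroups.
-/

set_option autoImplicit false

namespace CfsgLib.BinaryPSL

open CfsgLib.SL2 CfsgLib.Dickson Matrix
open scoped MatrixGroups

variable {F : Type*} [Field F] [Fintype F] [DecidableEq F]

local notation "SLF" => Matrix.SpecialLinearGroup (Fin 2) F
local notation "PF" => Matrix.ProjectiveSpecialLinearGroup (Fin 2) F

omit [Fintype F] [DecidableEq F] in
theorem toPGL_pmk (M : SLF) : ProjectiveSpecialLinearGroup.toPGL (pmk M : PF) =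
    ProjGenLinGroup.mk (SpecialLinearGroup.toGL M) := rfl

omit [Fintype F] [DecidableEq F] in
/-- An element with image in a subfield subgroup has entries proportional to elements of the subfield. -/
theorem entries_of_mem (L : Subfield F) {M : SLF}
    (h : ProjectiveSpecialLinearGroup.toPGL (pmk M : PF) ∈ (pglMap L.subtype).range) :
    ∃ c : F, ∃ N : Fin 2 → Fin 2 → F, (∀ i j, N i j ∈ L) ∧ ∀ i j, M i j = c * N i j := by
  obtain ⟨y, hy⟩ := h
  obtain ⟨N, rfl⟩ := ProjGenLinGroup.mk_surjective y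
  rw [toPGL_pmk, pglMap_mk, ProjGenLinGroup.mk_eq_mk_iff] at hy
  obtain ⟨c, hc⟩ := hy
  refine ⟨c, fun i j => (N i j : F), fun i j => (N i j).2, fun i j => ?_⟩
  have h := congrArg (fun m : GL (Fin 2) F => m i j) hc
  fin_cases i <;> fin_cases j <;>
    simp [Units.val_mul, Matrix.mul_apply, Fin.sum_univ_two, GeneralLinearGroup.map_apply] at h ⊢ <;>
    linear_combination -h

omit [Fintype F] [DecidableEq F] in
theorem ratio_mem {L : Subfield F} {a b c c' ea eb na nb na' nb' : F} (hna : na ∈ L) (hnb : nb ∈ L)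
    (hna' : na' ∈ L) (hnb' : nb' ∈ L) (ha : a = c * na) (hb : b = c * nb) (ha' : ea * a = c' * na')
    (hb' : eb * b = c' * nb') (ha0 : a ≠ 0) (hb0 : b ≠ 0) (hea : ea ≠ 0) (heb : eb ≠ 0) :
    eb / ea ∈ L := by
  have hc : c ≠ 0 := fun h => ha0 (by rw [ha, h, zero_mul])
  have hc' : c' ≠ 0 := fun h => mul_ne_zero hea ha0 (by rw [ha', h, zero_mul])
  have hna0 : na ≠ 0 := fun h => ha0 (by rw [ha, h, mul_zero])
  have hnb0 : nb ≠ 0 := fun h => hb0 (by rw [hb, h, mul_zero])
  have hna0' : na' ≠ 0 := fun h => mul_ne_zero hea ha0 (by rw [ha', h, mul_zero])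
  have : eb / ea = nb' * na / (nb * na') := by
    subst ha hb
    field_simp
    refine mul_left_cancel₀ (mul_ne_zero hc hc') ?_
    linear_combination (c' * na') * hb' - (c' * nb') * ha'
  rw [this]
  exact div_mem (mul_mem hnb' hna) (mul_mem hnb hna')

theorem exists_scalar (L : Subfield F) (hr : 4 ≤ Nat.card L) (hL : L ≠ ⊤) :
    ∃ μ : Fˣ, (μ : F) ^ 2 ∉ L ∧ (μ : F) ^ 4 ∉ L := by
  obtain ⟨μ, hμ⟩ := IsCyclic.exists_generator (α := Fˣ)
  have ho := orderOf_eq_card_of_forall_mem_zpowers hμ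
  rw [Nat.card_units, Nat.card_eq_fintype_card] at ho
  have key : ((μ : F)) ^ 4 ∉ L := by
    intro h
    have hx : (⟨(μ : F) ^ 4, h⟩ : L) ≠ 0 := fun e => pow_ne_zero 4 μ.ne_zero (congrArg Subtype.val e)
    haveI : Fintype L := Fintype.ofFinite L
    have h1 := FiniteField.pow_card_sub_one_eq_one (⟨(μ : F) ^ 4, h⟩ : L) hx
    rw [← Nat.card_eq_fintype_card] at h1
    have h2 : (μ : F) ^ (4 * (Nat.card L - 1)) = 1 := by
      rw [pow_mul]; exact congrArg Subtype.val h1
    have hd := orderOf_dvd_of_pow_eq_one (Units.ext (by simpa using h2) : μ ^ (4 * (Nat.card L - 1)) = 1)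
    rw [ho] at hd
    have hle := Nat.le_of_dvd (by omega) hd
    obtain ⟨m, hm0, hm⟩ := exists_pow_card L
    rcases Nat.lt_or_ge m 2 with h' | h'
    · obtain rfl : m = 1 := by omega
      rw [pow_one] at hm
      refine hL (eq_top_iff.2 fun x _ => ?_)
      have hb : Function.Bijective (L.subtype : L → F) :=
        (Fintype.bijective_iff_injective_and_card _).2
          ⟨Subtype.val_injective, by rw [← Nat.card_eq_fintype_card, hm]⟩
      obtain ⟨y, rfl⟩ := hb.2 x
      exact y.2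
    · have := Nat.pow_le_pow_right (show 0 < Nat.card L by omega) h'
      rw [hm, pow_two] at this
      have := Nat.mul_le_mul_right (Nat.card L) hr
      omega
  exact ⟨μ, fun h => key (by rw [show (μ : F) ^ 4 = (μ : F) ^ 2 * (μ : F) ^ 2 by ring]; exact mul_mem h h),
    key⟩

theorem inner_auto (k : PGL(2, F)) : ∃ ψ : PF ≃* PF, ∀ x : PF,
    ProjectiveSpecialLinearGroup.toPGL (ψ x) = k * ProjectiveSpecialLinearGroup.toPGL x * k⁻¹ := by
  set j := ProjectiveSpecialLinearGroup.toPGL (n := Fin 2) (R := F)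
  have hrange : j.range = (SpecialLinearGroup.toPGL (n := Fin 2) (R := F)).range := by
    ext g
    constructor
    · rintro ⟨u, rfl⟩
      induction u using QuotientGroup.induction_on with
      | H s => exact ⟨s, rfl⟩
    · rintro ⟨s, rfl⟩
      exact ⟨QuotientGroup.mk s, rfl⟩
  haveI : j.range.Normal := hrange ▸ toPGL_range_normal
  let e : PF ≃* j.range := MonoidHom.ofInjective ProjectiveSpecialLinearGroup.toPGL_injective
  refine ⟨e.trans ((MulAut.conjNormal k : MulAut j.range).trans e.symm), fun x => ?_⟩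
  have h1 : ∀ z : j.range, j (e.symm z) = z := fun z =>
    congrArg Subtype.val (e.apply_symm_apply z)
  exact (h1 _).trans (MulAut.conjNormal_apply k (e x))

theorem subfield_reduce {H : Subgroup PF} (hH : H ≠ ⊤) (L : Subfield F) (k : PGL(2, F))
    (hsub : (H.map ProjectiveSpecialLinearGroup.toPGL).map (MulAut.conj k).toMonoidHom ≤
      (pglMap L.subtype).range)
    (hsup : pslImage L.subtype ≤
      (H.map ProjectiveSpecialLinearGroup.toPGL).map (MulAut.conj k).toMonoidHom)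
    (hr : 4 ≤ Nat.card L)
    (hlam : (H.map ProjectiveSpecialLinearGroup.toPGL).map (MulAut.conj k).toMonoidHom =
      (pglMap L.subtype).range ∨ Nat.card L ≠ 5) : ¬ IsBinary H := by
  classical
  obtain ⟨ψ, hψ⟩ := inner_auto k
  rw [← isBinary_map_iff ψ]
  set H₁ := H.map ψ.toMonoidHom with hH₁
  set K := (H.map ProjectiveSpecialLinearGroup.toPGL).map (MulAut.conj k).toMonoidHom
  have hmem : ∀ x : PF, x ∈ H₁ ↔ ProjectiveSpecialLinearGroup.toPGL x ∈ K := by
    intro x
    constructor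
    · rintro ⟨h, hh, rfl⟩
      exact ⟨_, ⟨h, hh, rfl⟩, (hψ h).symm⟩
    · rintro ⟨_, ⟨h, hh, rfl⟩, he⟩
      exact ⟨h, hh, ProjectiveSpecialLinearGroup.toPGL_injective ((hψ h).trans he)⟩
  have hin : ∀ N : SLF, (∀ i j, N i j ∈ L) → pmk N ∈ H₁ := by
    intro N hN
    rw [hmem]
    refine hsup ⟨⟨Matrix.of fun i j => (⟨N i j, hN i j⟩ : L), ?_⟩, ?_⟩
    · apply Subtype.ext
      show L.subtype ((Matrix.of fun i j => (⟨N i j, hN i j⟩ : L)).det) = 1
      rw [RingHom.map_det]
      exact N.det_coe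
    · exact congrArg ProjGenLinGroup.mk (Units.ext rfl)
  have hL : L ≠ ⊤ := fun h => by
    refine hH (Subgroup.map_injective (f := ψ.toMonoidHom) ψ.injective ?_)
    rw [Subgroup.map_top_of_surjective _ ψ.surjective, eq_top_iff]
    intro x _
    obtain ⟨N, rfl⟩ := pmk_surjective x
    exact hin N fun i j => h ▸ Subfield.mem_top _
  obtain ⟨μ, hμ2, hμ4⟩ := exists_scalar L hr hL
  -- an element of the split torus
  obtain ⟨s, hs1, hs2, hs4⟩ : ∃ s : Fˣ, pmk (d s) ∈ H₁ ∧ (s : F) ^ 2 ∈ L ∧ (s : F) ^ 4 ≠ 1 := by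
    haveI : Fintype L := Fintype.ofFinite L
    obtain ⟨l, hl⟩ := IsCyclic.exists_generator (α := (L)ˣ)
    have ho := orderOf_eq_card_of_forall_mem_zpowers hl
    rw [Nat.card_units] at ho
    have hsmall : ∀ e : ℕ, 0 < e → ((l : L) : F) ^ e = 1 → Nat.card L - 1 ∣ e := fun e he h => by
      rw [← ho]
      exact orderOf_dvd_of_pow_eq_one (Units.ext (Subtype.ext (by simpa using h)))
    have hl0 : ((l : L) : F) ≠ 0 := fun h => l.ne_zero (Subtype.ext h)
    have hplain : Nat.card L ≠ 5 → ∃ s : Fˣ, pmk (d s) ∈ H₁ ∧ (s : F) ^ 2 ∈ L ∧ (s : F) ^ 4 ≠ 1 := by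
      intro h5
      refine ⟨Units.mk0 _ hl0, hin _ fun i j => ?_, pow_mem (l : L).2 2, fun h => ?_⟩
      · fin_cases i <;> fin_cases j <;> simp [zero_mem, inv_mem (l : L).2, (l : L).2]
      · have hd := hsmall 4 (by norm_num) h
        have := Nat.le_of_dvd (by norm_num) hd
        obtain h4 | h6 : Nat.card L = 4 ∨ Nat.card L = 5 := by omega
        · rw [h4] at hd; norm_num at hd
        · exact h5 h6
    rcases hlam with heq | h5
    · let D : GL (Fin 2) L := GeneralLinearGroup.mkOfDetNeZero !![(l : L), 0; 0, 1]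
        (by simp [det_fin_two])
      obtain ⟨_, ⟨h, hh, rfl⟩, he⟩ : pglMap L.subtype (ProjGenLinGroup.mk D) ∈ K := heq ▸ ⟨_, rfl⟩
      have hxH : ψ h ∈ H₁ := Subgroup.mem_map_of_mem _ hh
      have he' : ProjectiveSpecialLinearGroup.toPGL (ψ h) = pglMap L.subtype (ProjGenLinGroup.mk D) :=
        (hψ h).trans he
      obtain ⟨M, hM⟩ := pmk_surjective (ψ h)
      rw [← hM] at hxH he'
      rw [toPGL_pmk, pglMap_mk, ProjGenLinGroup.mk_eq_mk_iff] at he'
      obtain ⟨c, hc⟩ := he'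
      have hent := fun i j => congrArg (fun m : GL (Fin 2) F => m i j) hc
      have e00 := hent 0 0
      have e01 := hent 0 1
      have e10 := hent 1 0
      have e11 := hent 1 1
      simp [D, Units.val_mul, Matrix.mul_apply, Fin.sum_univ_two, GeneralLinearGroup.map_apply,
        GeneralLinearGroup.mkOfDetNeZero] at e00 e01 e10 e11
      have hdet := det_eq M
      rw [e01, e10, mul_zero, sub_zero] at hdet
      set s : Fˣ := Units.mk0 (M 0 0) (left_ne_zero_of_mul_eq_one hdet)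
      have hMs : M = d s := by
        obtain ⟨a, rfl⟩ := mem_T.2 ⟨e01, e10⟩
        exact congrArg d (Units.ext (by simp [s]))
      have hsq : (s : F) ^ 2 = ((l : L) : F) := by
        show M 0 0 ^ 2 = _
        have e00' : M 0 0 = ((l : L) : F) * M 1 1 := by
          linear_combination M 1 1 * e00 - M 0 0 * e11
        linear_combination M 0 0 * e00' + ((l : L) : F) * hdet
      refine ⟨s, hMs ▸ hxH, hsq ▸ (l : L).2, fun h => ?_⟩
      have hd := hsmall 2 (by norm_num) (by rw [← hsq, ← pow_mul]; exact h)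
      have := Nat.le_of_dvd (by norm_num) hd
      omega
    · exact hplain h5
  -- the intersection with a conjugate is diagonal
  set X := H₁ ⊓ H₁.map (MulAut.conj (pmk (d μ))).toMonoidHom with hX
  have hdiag : ∀ x ∈ X, ∃ σ : Fˣ, x = pmk (d σ) := by
    intro x hx
    obtain ⟨hx1, hx2⟩ := Subgroup.mem_inf.1 hx
    rw [Subgroup.mem_map_equiv] at hx2
    obtain ⟨M, rfl⟩ := pmk_surjective x
    obtain ⟨c, N, hN, hM⟩ := entries_of_mem L (hsub ((hmem _).1 hx1))
    have hx2' : pmk ((d μ)⁻¹ * M * d μ) ∈ H₁ := by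
      rw [map_mul, map_mul, map_inv]; simpa using hx2
    obtain ⟨c', N', hN', hM'⟩ := entries_of_mem L (hsub ((hmem _).1 hx2'))
    have hμ0 : (μ : F) ≠ 0 := μ.ne_zero
    have f00 := hM' 0 0
    have f01 := hM' 0 1
    have f10 := hM' 1 0
    simp [Matrix.mul_apply, Fin.sum_univ_two, ← map_inv, Matrix.vecMul, dotProduct] at f00 f01 f10
    have g00 : (1 : F) * M 0 0 = c' * N' 0 0 := by rw [← f00]; field_simp
    have g01 : ((μ : F) ^ 2)⁻¹ * M 0 1 = c' * N' 0 1 := by rw [← f01]; field_simp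
    have g10 : (μ : F) ^ 2 * M 1 0 = c' * N' 1 0 := by rw [← f10]; field_simp
    have hμ0' := pow_ne_zero 2 hμ0
    suffices hz : M 0 1 = 0 ∧ M 1 0 = 0 by
      obtain ⟨σ, hσ⟩ := mem_T.2 hz
      exact ⟨σ, by rw [hσ]⟩
    have hdet := det_eq M
    have hboth : ¬ (M 0 1 ≠ 0 ∧ M 1 0 ≠ 0) := fun ⟨h01, h10⟩ => hμ4 (by
      have := ratio_mem (hN 0 1) (hN 1 0) (hN' 0 1) (hN' 1 0) (hM 0 1) (hM 1 0) g01 g10 h01 h10
        (inv_ne_zero hμ0') hμ0'
      rwa [div_inv_eq_mul, show (μ : F) ^ 2 * (μ : F) ^ 2 = (μ : F) ^ 4 by ring] at this)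
    by_cases h00 : M 0 0 = 0
    · exfalso
      refine hboth ⟨fun h => ?_, fun h => ?_⟩ <;> rw [h00, h] at hdet <;> simp at hdet
    refine ⟨?_, ?_⟩ <;> by_contra h
    · have := ratio_mem (hN 0 0) (hN 0 1) (hN' 0 0) (hN' 0 1) (hM 0 0) (hM 0 1) g00 g01 h00 h
        one_ne_zero (inv_ne_zero hμ0')
      rw [div_one] at this
      exact hμ2 (inv_inv ((μ : F) ^ 2) ▸ inv_mem this)
    · have := ratio_mem (hN 0 0) (hN 1 0) (hN' 0 0) (hN' 1 0) (hM 0 0) (hM 1 0) g00 g10 h00 h
        one_ne_zero hμ0'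
      rw [div_one] at this
      exact hμ2 this
  have hsX : pmk (d s) ∈ X := by
    refine Subgroup.mem_inf.2 ⟨hs1, ?_⟩
    rw [Subgroup.mem_map_equiv]
    simp only [MulAut.conj_symm_apply]
    rwa [← map_inv, ← map_mul, ← map_mul, ← map_inv, ← map_mul, ← map_mul, mul_comm μ⁻¹ s,
      mul_assoc, inv_mul_cancel, mul_one]
  have hu : ∀ v ∈ L, pmk (u v) ∈ H₁ := fun v hv => hin _ fun i j => by
    fin_cases i <;> fin_cases j <;> simp [zero_mem, one_mem, hv]
  have hTI : ∀ v : F, v ≠ 0 → ∀ x ∈ X, (pmk (u v))⁻¹ * x * pmk (u v) ∈ X → x = 1 := by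
    intro v hv x hx hxv
    obtain ⟨σ, rfl⟩ := hdiag x hx
    obtain ⟨τ, hτ⟩ := hdiag _ hxv
    rw [← map_inv, ← map_mul, ← map_mul, ← u_neg, pmk_eq_iff] at hτ
    have hσ0 := σ.ne_zero
    rcases hτ with e | e <;> have h01 := congrArg (fun M : SLF => M 0 1) e <;>
      simp [Matrix.mul_apply, Fin.sum_univ_two] at h01 <;>
    · field_simp at h01
      have : (σ : F) * σ = 1 := mul_left_cancel₀ hv (by linear_combination h01)
      rcases mul_self_eq_one_iff.1 this with e | e
      · rw [show σ = 1 from Units.ext e, map_one, map_one]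
      · rw [show σ = -1 from Units.ext (by simpa using e), d_neg_one, pmk_neg, map_one]
  have hs0 : (s : F) ^ 2 ≠ 0 := pow_ne_zero 2 s.ne_zero
  set v : F := -((s : F) ^ 2)⁻¹
  have hprod : pmk (u 1) * pmk (d s) * (pmk (u 1))⁻¹ * (pmk (u v) * pmk (d s) * (pmk (u v))⁻¹) =
      (pmk (d (s * s)) : PF) := by
    rw [← map_inv, ← map_inv, ← map_mul, ← map_mul, ← map_mul, ← map_mul, ← map_mul]
    congr 1
    simp only [v, ← u_neg]
    have := s.ne_zero
    apply ext4 <;> simp [Matrix.mul_apply, Fin.sum_univ_two] <;> field_simp <;> ring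
  refine not_isBinary_of_suborbit_triple (pmk (d μ)) ⟨pmk (u 1), hu 1 (one_mem L), pmk (u v),
    hu v (neg_mem (inv_mem hs2)), pmk (u 1) * pmk (d s) * (pmk (u 1))⁻¹,
    pmk (u v) * pmk (d s) * (pmk (u v))⁻¹, ?_, ?_, ?_, ?_⟩
  · rw [← hX]; simpa [mul_assoc] using hsX
  · rw [← hX]; simpa [mul_assoc] using hsX
  · rw [hprod, ← hX, map_mul, map_mul]; exact mul_mem hsX hsX
  · rw [← hX]
    intro x hx y hy hxu hyv he
    rw [hTI 1 one_ne_zero x hx hxu, hTI v (neg_ne_zero.2 (inv_ne_zero hs0)) y hy hyv, one_mul, hprod] at he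
    rcases pmk_eq_one_iff.1 he.symm with e | e <;>
      have h00 := congrArg (fun M : SLF => M 0 0) e <;> simp at h00 <;>
      exact hs4 (by first
        | linear_combination ((s : F) * s + 1) * h00
        | linear_combination ((s : F) * s - 1) * h00)

end CfsgLib.BinaryPSL
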