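import Cfsg.Agent.BinaryPSL.Positive
import Cfsg.Agent.BinaryPSL.Poly
import Cfsg.Agent.BinaryPSL.Subfield
import Cfsg.Agent.SmallIso.PSLTwo
import Cfsg.Agent.Classical.Linear.Simple

/-!
Assembling the classification of the binary coset actions of `PSL(2, F)`.
-/

set_option autoImplicit false

namespace CfsgLib.BinaryPSL

open CfsgLib.SL2 CfsgLib.Dickson Matrix
open scoped MatrixGroups

variable {F : Type*} [Field F] [Fintype F]

local notation "SLF" => Matrix.SpecialLinearGroup (Fin 2) F
local notation "PF" => Matrix.ProjectiveSpecialLinearGroup (Fin 2) F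
local notation "S4" => Equiv.Perm (Fin 4)

/-- `S₄` in `PSL(2, 7)`. -/
theorem not_isBinary_s4_seven (hF : Fintype.card F = 7) {H : Subgroup PF} (i : H ≃* S4) :
    ¬ IsBinary H := by
  classical
  haveI : IsSimpleGroup PF :=
    Classical.Linear.isSimpleGroup_psl_fin le_rfl fun _ => by
      rw [Nat.card_eq_fintype_card, hF]; norm_num
  haveI : Fact (Nat.Prime 2) := ⟨Nat.prime_two⟩
  have hG : Nat.card PF = 168 := by
    have h := Dickson.card_psl (F := F)
    rw [hF, show Nat.gcd 2 (7 - 1) = 2 from rfl] at h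
    omega
  have hS4 : Nat.card S4 = 24 := by rw [Nat.card_perm, Nat.card_fin]; rfl
  have hH : Nat.card H = 24 := by rw [Nat.card_congr i.toEquiv, hS4]
  have hidx : H.index = 7 := by
    have := Subgroup.card_mul_index H
    rw [hH, hG] at this
    omega
  let f : S4 →* PF := H.subtype.comp i.symm.toMonoidHom
  have hf : Function.Injective f := H.subtype_injective.comp i.symm.injective
  have hfmem : ∀ d, f d ∈ H := fun d => (i.symm d).2
  have hrep : ∀ x ∈ H, ∃ d, x = f d := fun x hx => ⟨i ⟨x, hx⟩, by simp [f]⟩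
  have hrange : (⊤ : Subgroup S4).map f = H := by
    rw [← MonoidHom.range_eq_map, MonoidHom.range_comp,
      MonoidHom.range_eq_top.mpr (show Function.Surjective i.symm.toMonoidHom from i.symm.surjective),
      ← MonoidHom.range_eq_map, Subgroup.range_subtype]
  let V : Subgroup S4 :=
    { carrier := {v | v * v = 1 ∧ v.sign = 1}
      mul_mem' := fun {a b} ha hb =>
        (show ∀ a b : S4, a * a = 1 → a.sign = 1 → b * b = 1 → b.sign = 1 →
          a * b * (a * b) = 1 ∧ (a * b).sign = 1 by decide +kernel) a b ha.1 ha.2 hb.1 hb.2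
      one_mem' := ⟨mul_one 1, map_one _⟩
      inv_mem' := fun {a} (ha : a * a = 1 ∧ a.sign = 1) =>
        ⟨by rw [← _root_.mul_inv_rev, ha.1, inv_one], by rw [Equiv.Perm.sign_inv, ha.2]⟩ }
  haveI hVn : V.Normal := ⟨fun v hv g =>
    ⟨by rw [conj_mul, hv.1, mul_one, mul_inv_cancel], by
      rw [map_mul, map_mul, hv.2, mul_one, ← map_mul, mul_inv_cancel, map_one]⟩⟩
  set W := V.map f
  have hwV : (Equiv.swap 0 1 * Equiv.swap 2 3 : S4) ∈ V := ⟨by decide, by decide⟩
  have hWbot : W ≠ ⊥ := fun h => by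
    have h1 : f (Equiv.swap 0 1 * Equiv.swap 2 3) = 1 :=
      Subgroup.mem_bot.1 (h ▸ Subgroup.mem_map_of_mem f hwV)
    exact absurd (hf (h1.trans (map_one f).symm)) (by decide)
  have hWtop : W ≠ ⊤ := fun h => by
    have h1 : Nat.card PF ≤ Nat.card H := Subgroup.card_top (G := PF) ▸ h ▸
      Subgroup.card_le_of_le (show W ≤ H from hrange ▸ Subgroup.map_mono le_top)
    omega
  have hHN : H ≤ Subgroup.normalizer (W : Set PF) := by
    intro h hh
    obtain ⟨d, rfl⟩ := hrep h hh
    exact Subgroup.le_normalizer_map f (Subgroup.mem_map_of_mem f (by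
      rw [Subgroup.normalizer_eq_top_iff.mpr hVn]; exact Subgroup.mem_top d))
  have hNH : Subgroup.normalizer (W : Set PF) ≤ H := by
    rw [← Subgroup.eq_of_le_of_card_ge hHN ?_]
    have hd := Subgroup.card_subgroup_dvd_card (Subgroup.normalizer (W : Set PF))
    have hd' := Subgroup.card_dvd_of_le hHN
    rw [hG] at hd
    rw [hH] at hd' ⊢
    obtain ⟨e, he⟩ := hd'
    rw [he] at hd ⊢
    rcases (Nat.dvd_prime (by norm_num : Nat.Prime 7)).1
        (Nat.dvd_of_mul_dvd_mul_left (by norm_num : 0 < 24) (show 24 * e ∣ 24 * 7 from hd)) with h | h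
    · omega
    · exfalso
      have htop : Subgroup.normalizer (W : Set PF) = ⊤ := Subgroup.eq_top_of_card_eq _ (by rw [he, h, hG])
      rcases (Subgroup.normalizer_eq_top_iff.mp htop).eq_bot_or_eq_top with h' | h'
      · exact hWbot h'
      · exact hWtop h'
  let X : PF → Subgroup S4 := fun g => (H ⊓ H.map (MulAut.conj g).toMonoidHom).comap f
  have hbig : ∀ g, g ∉ H → 3 ≤ (X g).index := by
    intro g hg
    by_contra hlt
    push Not at hlt
    refine hg (hNH ?_)
    have hmap : ∀ w ∈ W, g⁻¹ * w * g ∈ W := by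
      rintro _ ⟨v, hv, rfl⟩
      obtain ⟨v', h1, h2, he⟩ := s4_even_involution i (g := g) (v := v)
        (show (X g).index ≤ 2 by omega) hv.1 hv.2
      exact ⟨v', ⟨h1, h2⟩, he.symm⟩
    have hle : W.map (MulAut.conj g⁻¹).toMonoidHom ≤ W := by
      rintro _ ⟨w, hw, rfl⟩
      simpa using hmap w hw
    have heq := Subgroup.eq_of_le_of_card_ge hle
      (Subgroup.card_map_of_injective (MulAut.conj g⁻¹).injective).ge
    exact inv_inv g ▸ inv_mem (Subgroup.mem_normalizer_iff_map_conj_eq.2 heq :
      g⁻¹ ∈ Subgroup.normalizer (W : Set PF))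
  let orb : PF → Finset (PF ⧸ H) := fun g => Finset.univ.image fun d : S4 => ((f d * g : PF) : PF ⧸ H)
  have horb : ∀ g, (orb g).card = (X g).index := by
    intro g
    have hmk : ∀ d e : S4, ((f d * g : PF) : PF ⧸ H) = ((f e * g : PF) : PF ⧸ H) ↔ d⁻¹ * e ∈ X g := by
      intro d e
      rw [QuotientGroup.eq, Subgroup.mem_comap, Subgroup.mem_inf, Subgroup.mem_map_equiv]
      simp only [hfmem, true_and]
      simp [mul_assoc]
    let F' : S4 ⧸ X g → PF ⧸ H := Quotient.lift (fun d : S4 => ((f d * g : PF) : PF ⧸ H))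
      fun d e h => (hmk d e).2 (QuotientGroup.leftRel_apply.1 h)
    have hinj : Function.Injective F' := fun a b he => by
      induction a using QuotientGroup.induction_on with
      | H d => induction b using QuotientGroup.induction_on with
        | H e => exact QuotientGroup.eq.2 ((hmk d e).1 he)
    haveI := Fintype.ofFinite (S4 ⧸ X g)
    rw [Subgroup.index_eq_card, Nat.card_eq_fintype_card, ← Finset.card_univ,
      ← Finset.card_image_of_injective _ hinj]
    congr 1
    ext p
    simp only [orb, Finset.mem_image, Finset.mem_univ, true_and]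
    constructor
    · rintro ⟨d, rfl⟩; exact ⟨QuotientGroup.mk d, rfl⟩
    · rintro ⟨q, rfl⟩
      induction q using QuotientGroup.induction_on with
      | H d => exact ⟨d, rfl⟩
  have hnot : ∀ g, g ∉ H → ((1 : PF) : PF ⧸ H) ∉ orb g := by
    intro g hg hmem
    obtain ⟨d, -, hd⟩ := Finset.mem_image.1 hmem
    rw [QuotientGroup.eq, mul_one] at hd
    exact hg (by simpa [mul_assoc] using mul_mem (inv_mem (hfmem d)) (inv_mem hd))
  have huniv : (Finset.univ : Finset (PF ⧸ H)).card = 7 := by
    rw [Finset.card_univ, ← Nat.card_eq_fintype_card, ← Subgroup.index_eq_card, hidx]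
  intro hb
  refine not_isBinary_of_two_transitive (fun x y hx hy => ?_) (by omega) ?_ hb
  swap
  · rw [hidx, hG]; norm_num [Nat.factorial]
  by_cases hxy : ((y : PF) : PF ⧸ H) ∈ orb x
  · obtain ⟨d, -, hd⟩ := Finset.mem_image.1 hxy
    exact ⟨f d, hfmem d, by simpa [mul_assoc] using inv_mem (QuotientGroup.eq.1 hd)⟩
  exfalso
  have hdisj : Disjoint (orb x) (orb y) := by
    refine Finset.disjoint_left.2 fun p hp hp' => hxy ?_
    obtain ⟨d, -, rfl⟩ := Finset.mem_image.1 hp
    obtain ⟨e, -, he⟩ := Finset.mem_image.1 hp'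
    refine Finset.mem_image.2 ⟨e⁻¹ * d, Finset.mem_univ _, ?_⟩
    have := congrArg (fun q : PF ⧸ H => (f e)⁻¹ • q) he
    simpa [mul_assoc] using this.symm
  have hsub : orb x ∪ orb y ⊆ Finset.univ.erase ((1 : PF) : PF ⧸ H) := fun p hp =>
    Finset.mem_erase.2 ⟨fun h => (Finset.mem_union.1 hp).elim (h ▸ hnot x hx) (h ▸ hnot y hy),
      Finset.mem_univ p⟩
  have hle := Finset.card_le_card hsub
  rw [Finset.card_union_of_disjoint hdisj, Finset.card_erase_of_mem (Finset.mem_univ _), huniv,
    horb, horb] at hle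
  have hx3 := hbig x hx
  have hy3 := hbig y hy
  have hallW : ∀ g, g ∉ H → (X g).index = 3 → W ≤ H.map (MulAut.conj g).toMonoidHom := by
    intro g _ h3
    have hc : Nat.card (X g) = 8 := by
      have := Subgroup.card_mul_index (X g)
      rw [h3, hS4] at this
      omega
    have hVp : IsPGroup 2 V := fun v => ⟨1, Subtype.ext (by simpa [pow_two] using v.2.1)⟩
    have hXp : IsPGroup 2 (X g) := IsPGroup.of_card (n := 3) (by rw [hc]; rfl)
    have hsup := IsPGroup.iff_card.1 (hXp.to_sup_of_normal_right hVp)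
    obtain ⟨j, hj⟩ := hsup
    have hd : 2 ^ j ∣ 24 := hj ▸ hS4 ▸ Subgroup.card_subgroup_dvd_card _
    have hj3 : j ≤ 3 := by
      by_contra h
      have := (pow_dvd_pow 2 (show 4 ≤ j by omega)).trans hd
      norm_num at this
    have hXV : X g = X g ⊔ V := Subgroup.eq_of_le_of_card_ge le_sup_left (by
      rw [hj, hc]; exact (Nat.pow_le_pow_right (by norm_num) hj3).trans_eq rfl)
    rintro _ ⟨v, hv, rfl⟩
    exact (Subgroup.mem_inf.1 (Subgroup.mem_comap.1 (hXV ▸ Subgroup.mem_sup_right hv : v ∈ X g))).2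
  have hcore : W ≤ H.normalCore := by
    intro w hw g
    by_cases hg : g ∈ H
    · exact mul_mem (mul_mem hg (hrange ▸ Subgroup.map_mono le_top hw)) (inv_mem hg)
    · have hg' : g⁻¹ ∉ H := fun h => hg (inv_inv g ▸ inv_mem h)
      have h3 : (X g⁻¹).index = 3 := by
        have hall : Finset.univ.erase ((1 : PF) : PF ⧸ H) = orb x ∪ orb y :=
          (Finset.eq_of_subset_of_card_le hsub (by
            rw [Finset.card_union_of_disjoint hdisj, Finset.card_erase_of_mem (Finset.mem_univ _),
              huniv, horb, horb]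
            omega)).symm
        have hmem : ((g⁻¹ : PF) : PF ⧸ H) ∈ orb x ∪ orb y := hall ▸ Finset.mem_erase.2
          ⟨fun h => hg' (by simpa using QuotientGroup.eq.1 h.symm), Finset.mem_univ _⟩
        have horbeq : ∀ z, ((g⁻¹ : PF) : PF ⧸ H) ∈ orb z → orb g⁻¹ = orb z := by
          intro z hz
          obtain ⟨d, -, hd⟩ := Finset.mem_image.1 hz
          ext p
          simp only [orb, Finset.mem_image, Finset.mem_univ, true_and]
          constructor
          · rintro ⟨e, rfl⟩
            refine ⟨e * d, ?_⟩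
            have := congrArg (fun q : PF ⧸ H => f e • q) hd
            simpa [mul_assoc] using this
          · rintro ⟨e, rfl⟩
            refine ⟨e * d⁻¹, ?_⟩
            have := congrArg (fun q : PF ⧸ H => (f e * (f d)⁻¹) • q) hd
            simpa [mul_assoc] using this.symm
        rw [← horb]
        rcases Finset.mem_union.1 hmem with h | h <;> rw [horbeq _ h, horb] <;> omega
      have := hallW _ hg' h3 hw
      rw [Subgroup.mem_map_equiv] at this
      simpa using this
  rcases (Subgroup.normalCore_normal H).eq_bot_or_eq_top with h | h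
  · exact hWbot (le_bot_iff.1 (h ▸ hcore))
  · have : H = ⊤ := top_le_iff.1 (h ▸ Subgroup.normalCore_le H)
    rw [this, Subgroup.index_top] at hidx
    omega

/-- Elements centralising an element of order three with square outside its subgroup. -/
theorem exists_centralizing_sq (h2 : (2 : F) ≠ 0) (hq : Fintype.card F = 11 → False)
    (hq' : Fintype.card F = 13 → False) (h7 : 9 ≤ Fintype.card F) {c : PF} (hc3 : c ^ 3 = 1)
    (hc1 : c ≠ 1) : ∃ g : PF, Commute g c ∧ g * g ∉ Subgroup.zpowers c := by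
  classical
  obtain ⟨p, hp⟩ := CharP.exists F
  haveI : Fact p.Prime := ⟨CharP.char_is_prime F p⟩
  have ho : orderOf c = 3 := orderOf_eq_prime hc3 hc1
  by_cases hp3 : p = 3
  · subst hp3
    obtain ⟨C, rfl⟩ := pmk_surjective c
    have h4 : tr C ^ 2 = 4 := by
      by_contra h
      rw [← map_pow, pmk_eq_one_iff] at hc3
      have hC6 : C ^ (2 * 3) = 1 := by
        rw [mul_comm, pow_mul]; rcases hc3 with e | e <;> rw [e] <;> simp
      have hcen := SL2.not_mem_center_of_tr_sq_ne h
      have hd := orderOf_dvd_of_pow_eq_one hC6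
      have hco : ∀ N : ℕ, N = Fintype.card F - 1 ∨ N = Fintype.card F + 1 → ¬ 3 ∣ N := by
        obtain ⟨n, -, hn⟩ := FiniteField.card F 3
        intro N hN hdiv
        have : 3 ∣ Fintype.card F := hn ▸ dvd_pow_self 3 (PNat.ne_zero n)
        have := Fintype.one_lt_card (α := F)
        omega
      have hdvd : orderOf C ∣ Fintype.card F - 1 ∨ orderOf C ∣ Fintype.card F + 1 := by
        have hself : C ∈ Subgroup.centralizer ({C} : Set SLF) :=
          Subgroup.mem_centralizer_singleton_iff.2 rfl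
        by_cases hs : IsSplitTrace (tr C)
        · exact Or.inl (card_centralizer_split h hs ▸ Subgroup.orderOf_dvd_natCard _ hself)
        · exact Or.inr (card_centralizer_nonsplit hs ▸ Subgroup.orderOf_dvd_natCard _ hself)
      have h3 : ¬ 3 ∣ orderOf C := fun h => hdvd.elim
        (fun hd => hco _ (Or.inl rfl) (h.trans hd)) (fun hd => hco _ (Or.inr rfl) (h.trans hd))
      have hC2 : C ^ 2 = 1 := orderOf_dvd_iff_pow_eq_one.1
        (((Nat.Prime.coprime_iff_not_dvd Nat.prime_three).2 h3).symm.dvd_of_dvd_mul_right hd)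
      refine hc1 (pmk_eq_one_iff.2 ?_)
      rw [pow_two] at hC2
      by_cases hC1 : C = 1
      · exact Or.inl hC1
      · exact Or.inr (eq_neg_one_of_mul_self h2 hC1 hC2)
    obtain ⟨S, hS, hSC⟩ : ∃ S : SLF, tr S = 2 ∧ pmk S = pmk C := by
      rcases mul_eq_zero.1 (show (tr C - 2) * (tr C + 2) = 0 by linear_combination h4) with h | h
      · exact ⟨C, sub_eq_zero.1 h, rfl⟩
      · exact ⟨-C, by rw [tr_neg]; linear_combination -h, pmk_neg C⟩
    obtain ⟨s, hs, hconj⟩ := exists_isConj_u (fun e => hc1 (by rw [← hSC, e, map_one])) hS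
    obtain ⟨P, hP⟩ := isConj_iff.1 hconj
    obtain ⟨μ, -, hμ⟩ := Finset.exists_mem_notMem_of_card_lt_card
      (s := ({0, 2 * s, s, -s} : Finset F)) (t := Finset.univ) (lt_of_le_of_lt
        ((Finset.card_insert_le _ _).trans (Nat.succ_le_succ
          ((Finset.card_insert_le _ _).trans (Nat.succ_le_succ Finset.card_le_two))))
        (by rw [Finset.card_univ]; omega))
    simp only [Finset.mem_insert, Finset.mem_singleton, not_or] at hμ
    rw [← hSC]
    refine ⟨pmk (P⁻¹ * u μ * P), ?_, ?_⟩
    · refine (show Commute (P⁻¹ * u μ * P) S from ?_).map pmk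
      have hS' : S = P⁻¹ * u s * P := by rw [← hP]; group
      rw [hS', Commute, SemiconjBy]
      calc P⁻¹ * u μ * P * (P⁻¹ * u s * P) = P⁻¹ * (u μ * u s) * P := by group
        _ = P⁻¹ * (u s * u μ) * P := by rw [← u_add, ← u_add, add_comm]
        _ = _ := by group
    · intro hmem
      have hC3 : (pmk S : PF) ^ 3 = 1 := hSC ▸ hc3
      have key : ∀ j : F, pmk (P⁻¹ * u j * P) = (pmk P)⁻¹ * pmk (u j) * pmk P := fun j => by
        rw [map_mul, map_mul, map_inv]
      have hS' : pmk S = (pmk P)⁻¹ * pmk (u s) * pmk P := by rw [← key, ← hP]; congr 1; group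
      have hsq : pmk (P⁻¹ * u μ * P) * pmk (P⁻¹ * u μ * P) = ((pmk P)⁻¹ * pmk (u (μ + μ)) * pmk P : PF) := by
        rw [key, u_add, map_mul]; simp [mul_assoc]
      have hinj : ∀ a b : F, (pmk P)⁻¹ * pmk (u a) * pmk P = ((pmk P)⁻¹ * pmk (u b) * pmk P : PF) →
          a = b := fun a b h => pmk_u_inj (mul_left_cancel (mul_right_cancel h))
      rw [hsq] at hmem
      rcases List.mem_cons.1 ((mem_zpowers_three hC3).1 hmem) with e | e
      · have := hinj (μ + μ) 0 (by rw [e, u_zero, map_one]; simp)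
        rw [← two_mul] at this
        exact hμ.1 ((mul_eq_zero.1 this).resolve_left h2)
      · have h30 : (3 : F) = 0 := CharP.ofNat_eq_zero F 3
        rcases List.mem_cons.1 e with e | e
        · have := hinj (μ + μ) s (e.trans hS')
          exact hμ.2.1 (by linear_combination 2 * this - μ * h30)
        · have h2s : pmk S * pmk S = ((pmk P)⁻¹ * pmk (u (s + s)) * pmk P : PF) := by
            rw [hS', u_add, map_mul]; simp [mul_assoc]
          have := hinj (μ + μ) (s + s) ((List.mem_singleton.1 e).trans h2s)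
          exact hμ.2.2.1 (by linear_combination 2 * this - (μ - s) * h30)
  · have hpo : ¬ p ∣ orderOf c := fun h => hp3 (by
      rw [ho] at h; exact (Nat.prime_dvd_prime_iff_eq Fact.out Nat.prime_three).1 h)
    obtain ⟨n, -, hn⟩ := FiniteField.card F p
    have hodd := SL2.two_ne_zero_iff_odd.1 h2
    have hne9 : Fintype.card F ≠ 9 := fun h => hp3 (by
      have : p ∣ 3 ^ 2 := by rw [show (3 : ℕ) ^ 2 = 9 from rfl, ← h, hn]; exact dvd_pow_self p (PNat.ne_zero n)
      exact (Nat.prime_dvd_prime_iff_eq Fact.out Nat.prime_three).1 ((Fact.out : p.Prime).dvd_of_dvd_pow this))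
    rw [Nat.odd_iff] at hodd
    obtain ⟨g, hg, hg6⟩ := exists_centralizing_pow_ne hc1 hpo 6 (by
      constructor <;> intro hd <;>
        have := Nat.le_of_dvd (by norm_num) hd <;>
        rcases (show Fintype.card F = 9 ∨ Fintype.card F = 11 ∨ Fintype.card F = 13 by omega) with
          hc | hc | hc <;>
        first | exact hne9 hc | exact hq hc | exact hq' hc)
    refine ⟨g, hg, fun hmem => hg6 ?_⟩
    rcases List.mem_cons.1 ((mem_zpowers_three hc3).1 hmem) with e | e
    · rw [show 6 = 2 * 3 from rfl, pow_mul, pow_two, e, one_pow]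
    rcases List.mem_cons.1 e with e | e
    · rw [show 6 = 2 * 3 from rfl, pow_mul, pow_two, e, hc3]
    · rw [show 6 = 2 * 3 from rfl, pow_mul, pow_two, List.mem_singleton.1 e, ← pow_two, ← pow_mul,
        mul_comm, pow_mul, hc3, one_pow]

theorem exists_order_three {H : Subgroup PF} (h : 3 ∣ Nat.card H) :
    ∃ c ∈ H, c ^ 3 = 1 ∧ c ≠ 1 := by
  haveI : Fact (Nat.Prime 3) := ⟨Nat.prime_three⟩
  obtain ⟨c, hc⟩ := exists_prime_orderOf_dvd_card' (G := H) 3 h
  refine ⟨c, c.2, ?_, fun e => ?_⟩
  · rw [← Subgroup.coe_pow, orderOf_dvd_iff_pow_eq_one.1 (dvd_of_eq hc), Subgroup.coe_one]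
  · rw [← Subgroup.orderOf_coe, e, orderOf_one] at hc
    norm_num at hc

theorem not_isBinary_s4' (h4 : 4 ≤ Fintype.card F) (h5 : Fintype.card F ≠ 5) (h2 : (2 : F) ≠ 0)
    {H : Subgroup PF} (i : H ≃* S4) : ¬ IsBinary H := by
  classical
  have hS4 : Nat.card H = 24 := by rw [Nat.card_congr i.toEquiv, Nat.card_perm, Nat.card_fin]; rfl
  have h7 := odd_seven (h5 := h5) h4 h2
  have hodd := SL2.two_ne_zero_iff_odd.1 h2
  rw [Nat.odd_iff] at hodd
  by_cases hq7 : Fintype.card F = 7
  · exact not_isBinary_s4_seven hq7 i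
  have hd := hS4 ▸ Subgroup.card_subgroup_dvd_card H
  have hP := Dickson.card_psl (F := F)
  have h11 : Fintype.card F ≠ 11 := fun h => by
    rw [h] at hP; simp only [Nat.reduceSub, Nat.reducePow, Nat.reduceMul] at hP; norm_num [-Nat.card_eq_fintype_card] at hP; omega
  have h13 : Fintype.card F ≠ 13 := fun h => by
    rw [h] at hP; simp only [Nat.reduceSub, Nat.reducePow, Nat.reduceMul] at hP; norm_num [-Nat.card_eq_fintype_card] at hP; omega
  obtain ⟨c, hcH, hc3, hc1⟩ := exists_order_three (H := H) (by rw [hS4]; norm_num)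
  obtain ⟨g, hgc, hg⟩ := exists_centralizing_sq h2 h11 h13 (by omega) hc3 hc1
  exact not_isBinary_s4 h2 i hcH hc3 hc1 hgc hg

theorem not_isBinary_a5' (h4 : 4 ≤ Fintype.card F) (h5 : Fintype.card F ≠ 5) (h2 : (2 : F) ≠ 0)
    {H : Subgroup PF} (hH : H ≠ ⊤) (i : H ≃* alternatingGroup (Fin 5)) : ¬ IsBinary H := by
  classical
  have hA5 : Nat.card H = 60 := by rw [Nat.card_congr i.toEquiv, Dickson.card_alt_five]
  have h7 := odd_seven (h5 := h5) h4 h2
  have hodd := SL2.two_ne_zero_iff_odd.1 h2
  rw [Nat.odd_iff] at hodd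
  have hd := hA5 ▸ Subgroup.card_subgroup_dvd_card H
  have hP := Dickson.card_psl (F := F)
  have h13 : Fintype.card F ≠ 13 := fun h => by
    rw [h] at hP; simp only [Nat.reduceSub, Nat.reducePow, Nat.reduceMul] at hP; norm_num [-Nat.card_eq_fintype_card] at hP; omega
  have hne7 : Fintype.card F ≠ 7 := fun h => by
    rw [h] at hP; simp only [Nat.reduceSub, Nat.reducePow, Nat.reduceMul] at hP; norm_num [-Nat.card_eq_fintype_card] at hP; omega
  obtain ⟨c, hcH, hc3, hc1⟩ := exists_order_three (H := H) (by rw [hA5]; norm_num)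
  by_cases h11 : Fintype.card F = 11
  · obtain ⟨p, hp⟩ := CharP.exists F
    haveI : Fact p.Prime := ⟨CharP.char_is_prime F p⟩
    have hp11 : p = 11 := by
      obtain ⟨n, -, hn⟩ := FiniteField.card F p
      have : p ∣ 11 := h11 ▸ hn ▸ dvd_pow_self p (PNat.ne_zero n)
      exact (Nat.prime_dvd_prime_iff_eq Fact.out (by norm_num)).1 this
    obtain ⟨g, hgc, hg3⟩ := exists_centralizing_pow_ne hc1 (p := p)
      (by rw [hp11, orderOf_eq_prime hc3 hc1]; norm_num) 3 (by rw [h11]; norm_num)
    refine not_isBinary_a5 i hcH hc3 hc1 hgc fun hle => hg3 ?_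
    haveI : IsSimpleGroup PF := Classical.Linear.isSimpleGroup_psl_fin le_rfl fun _ => by
      rw [Nat.card_eq_fintype_card, h11]; norm_num
    have heq : H.map (MulAut.conj g).toMonoidHom = H :=
      (Subgroup.eq_of_le_of_card_ge hle (Subgroup.card_map_of_injective (MulAut.conj g).injective).le).symm
    have hgN : g ∈ Subgroup.normalizer (H : Set PF) := Subgroup.mem_normalizer_iff_map_conj_eq.2 heq
    have hNH : Subgroup.normalizer (H : Set PF) ≤ H := by
      rw [← Subgroup.eq_of_le_of_card_ge (Subgroup.le_normalizer (H := H)) ?_]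
      have hd1 := Subgroup.card_dvd_of_le (Subgroup.le_normalizer (H := H))
      have hd2 := Subgroup.card_subgroup_dvd_card (Subgroup.normalizer (H : Set PF))
      have hG : Nat.card PF = 660 := by rw [h11] at hP; norm_num [-Nat.card_eq_fintype_card] at hP; omega
      rw [hG] at hd2
      rw [hA5] at hd1 ⊢
      obtain ⟨e, he⟩ := hd1
      rw [he] at hd2 ⊢
      rcases (Nat.dvd_prime (by norm_num : Nat.Prime 11)).1
          (Nat.dvd_of_mul_dvd_mul_left (by norm_num : 0 < 60) (show 60 * e ∣ 60 * 11 from hd2)) with h | h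
      · omega
      · exfalso
        have htop : Subgroup.normalizer (H : Set PF) = ⊤ := Subgroup.eq_top_of_card_eq _ (by rw [he, h, hG])
        rcases (Subgroup.normalizer_eq_top_iff.mp htop).eq_bot_or_eq_top with h' | h'
        · rw [h', Subgroup.card_bot] at hA5; omega
        · exact hH h'
    -- `g` is then a power of `c`
    obtain ⟨d, hd'⟩ : ∃ d, g = (i.symm d : H) := ⟨i ⟨g, hNH hgN⟩, by simp⟩
    obtain ⟨c', hc'⟩ : ∃ c', c = (i.symm c' : H) := ⟨i ⟨c, hcH⟩, by simp⟩
    have hf : Function.Injective fun x => ((i.symm x : H) : PF) := H.subtype_injective.comp i.symm.injective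
    have hc3' : c' ^ 3 = 1 := hf (by simp [← hc', hc3])
    have hmem := a5_facts c' hc3' (fun h => hc1 (by rw [hc', h, map_one, Subgroup.coe_one])) d
      (hf (by simp only [map_mul, Subgroup.coe_mul, ← hc', ← hd']; exact hgc))
    have hd3 : d ^ 3 = 1 := by
      rcases List.mem_cons.1 hmem with e | e
      · rw [e, one_pow]
      rcases List.mem_cons.1 e with e | e
      · rw [e, hc3']
      · rw [List.mem_singleton.1 e, ← pow_two, ← pow_mul, mul_comm, pow_mul, hc3', one_pow]
    rw [hd', ← Subgroup.coe_pow, ← map_pow, hd3, map_one, Subgroup.coe_one]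
  · obtain ⟨g, hgc, hg⟩ := exists_centralizing_sq h2 (fun h => h11 h) h13 (by omega) hc3 hc1
    exact not_isBinary_a5 i hcH hc3 hc1 hgc (a5_moved i hcH hc3 hc1 hgc hg)

theorem pgl_three_iso {L : Type*} [Field L] [Fintype L] (hL : Fintype.card L = 3) :
    Nonempty (PGL(2, L) ≃* S4) := by
  classical
  let e : OnePoint L ≃ Fin 4 := Fintype.equivFinOfCardEq (by
    show Fintype.card (Option L) = 4
    rw [Fintype.card_option, hL])
  refine ⟨MulEquiv.ofBijective (e.permCongrHom.toMonoidHom.comp pglToPerm) ?_⟩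
  have hinj : Function.Injective (pglToPerm (K := L)) := by
    rw [injective_iff_map_eq_one]
    intro g hg
    have hfix : ∀ x : OnePoint L, g • x = x := fun x => Equiv.congr_fun hg x
    exact eq_one_of_three_fixed (x := (OnePoint.infty : OnePoint L)) (y := ((0 : L) : OnePoint L))
      (z := ((1 : L) : OnePoint L)) (OnePoint.infty_ne_coe 0) (OnePoint.infty_ne_coe 1)
      (fun h => zero_ne_one (OnePoint.coe_injective h)) (hfix _) (hfix _) (hfix _)
  refine (Nat.bijective_iff_injective_and_card _).2 ⟨e.permCongrHom.injective.comp hinj, ?_⟩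
  rw [card_pgl2, hL, Nat.card_perm, Nat.card_fin]
  rfl

theorem pgl_two_iso {L : Type*} [Field L] [Fintype L] (hL : Fintype.card L = 2) :
    Nonempty (PGL(2, L) ≃* Equiv.Perm (Fin 3)) := by
  classical
  let e : OnePoint L ≃ Fin 3 := Fintype.equivFinOfCardEq (by
    show Fintype.card (Option L) = 3
    rw [Fintype.card_option, hL])
  refine ⟨MulEquiv.ofBijective (e.permCongrHom.toMonoidHom.comp pglToPerm) ?_⟩
  have hinj : Function.Injective (pglToPerm (K := L)) := by
    rw [injective_iff_map_eq_one]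
    intro g hg
    have hfix : ∀ x : OnePoint L, g • x = x := fun x => Equiv.congr_fun hg x
    exact eq_one_of_three_fixed (x := (OnePoint.infty : OnePoint L)) (y := ((0 : L) : OnePoint L))
      (z := ((1 : L) : OnePoint L)) (OnePoint.infty_ne_coe 0) (OnePoint.infty_ne_coe 1)
      (fun h => zero_ne_one (OnePoint.coe_injective h)) (hfix _) (hfix _) (hfix _)
  refine (Nat.bijective_iff_injective_and_card _).2 ⟨e.permCongrHom.injective.comp hinj, ?_⟩
  rw [card_pgl2, hL, Nat.card_perm, Nat.card_fin]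
  rfl

theorem not_isBinary_s3 (h4 : 4 ≤ Fintype.card F) (h5 : Fintype.card F ≠ 5) {H : Subgroup PF}
    (i : H ≃* Equiv.Perm (Fin 3)) : ¬ IsBinary H := by
  let f : Equiv.Perm (Fin 3) →* PF := H.subtype.comp i.symm.toMonoidHom
  have hf : Function.Injective f := H.subtype_injective.comp i.symm.injective
  have hrep : ∀ x ∈ H, ∃ d, x = f d := fun x hx => ⟨i ⟨x, hx⟩, by simp [f]⟩
  have hsq : ∀ d, f d * f d = 1 ↔ d * d = 1 := fun d => by
    rw [← map_mul]; exact ⟨fun h => hf (h.trans (map_one f).symm), fun h => by rw [h, map_one]⟩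
  have facts : (∀ d : Equiv.Perm (Fin 3), d * d ≠ 1 →
        Equiv.swap 0 1 * d * Equiv.swap 0 1 = d⁻¹) ∧
      (∀ d e : Equiv.Perm (Fin 3), d * d ≠ 1 → e * e ≠ 1 → d * e = e * d) ∧
      (∀ d e : Equiv.Perm (Fin 3), d * d = 1 → e * e = 1 → d * e = e * d → d = 1 ∨ e = 1 ∨ d = e) := by
    refine ⟨?_, ?_, ?_⟩ <;> decide +kernel
  refine not_isBinary_inv h4 h5 (a := f (Equiv.swap 0 1)) (i.symm _).2
    ((hsq _).2 (by decide)) (fun e => absurd (hf (e.trans (map_one f).symm)) (by decide)) ?_ ?_ ?_
  · intro x hx hx2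
    obtain ⟨d, rfl⟩ := hrep x hx
    rw [← map_mul, ← map_mul, ← map_inv, facts.1 d (fun h => hx2 ((hsq d).2 h))]
  · intro x hx y hy hx2 hy2
    obtain ⟨d, rfl⟩ := hrep x hx
    obtain ⟨e, rfl⟩ := hrep y hy
    exact (show Commute d e from
      facts.2.1 d e (fun h => hx2 ((hsq d).2 h)) (fun h => hy2 ((hsq e).2 h))).map f
  · intro x hx y hy hx2 hy2 hc
    obtain ⟨d, rfl⟩ := hrep x hx
    obtain ⟨e, rfl⟩ := hrep y hy
    rcases facts.2.2 d e ((hsq d).1 hx2) ((hsq e).1 hy2)
      (hf (by rw [map_mul, map_mul]; exact hc)) with h | h | h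
    · exact Or.inl (by rw [h, map_one])
    · exact Or.inr (Or.inl (by rw [h, map_one]))
    · exact Or.inr (Or.inr (by rw [h]))

theorem mem_pslStab_infty_le {H : Subgroup PF} [DecidableEq F] {x : OnePoint F} (hx : H ≤ pslStab x) :
    ∃ g : PF, H.map (MulAut.conj g).toMonoidHom ≤ (B : Subgroup SLF).map pmk := by
  obtain ⟨g, rfl⟩ := exists_psl_smul_infty x
  rw [pslStab_smul, pslStab_infty] at hx
  refine ⟨g⁻¹, ?_⟩
  rintro _ ⟨h, hh, rfl⟩
  have := hx hh
  rw [Subgroup.mem_map_equiv] at this
  simpa [pmk] using this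

/-- The classification. -/
theorem isBinary_iff (h4 : 4 ≤ Fintype.card F) (h5 : Fintype.card F ≠ 5) (H : Subgroup PF)
    (hH : H ≠ ⊤) :
    IsBinary H ↔
      (H = ⊥ ∨ ((∃ a : ℕ, Fintype.card F = 2 ^ a) ∧ ∃ P : Sylow 2 PF, H = P) ∨
        ((∃ a : ℕ, Odd a ∧ Fintype.card F = 2 ^ a) ∧ Nat.card H = 3)) := by
  classical
  obtain ⟨p, hp⟩ := CharP.exists F
  haveI : Fact p.Prime := ⟨CharP.char_is_prime F p⟩
  obtain ⟨n, -, hn⟩ := FiniteField.card F p
  have hchar : ∀ a : ℕ, Fintype.card F = 2 ^ a → CharP F 2 := fun a ha => by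
    have : p ∣ 2 ^ a := ha ▸ hn ▸ dvd_pow_self p (PNat.ne_zero n)
    rwa [(Nat.prime_dvd_prime_iff_eq Fact.out Nat.prime_two).1 ((Fact.out : p.Prime).dvd_of_dvd_pow this)] at hp
  have hpow : (2 : F) = 0 → ∃ a : ℕ, Fintype.card F = 2 ^ a := fun h2 => by
    have : CharP F 2 := CharTwo.of_one_ne_zero_of_two_eq_zero one_ne_zero h2
    exact ⟨n, by rw [hn, CharP.eq F hp this]⟩
  haveI : Fact (Nat.Prime 2) := ⟨Nat.prime_two⟩
  have hsyl : (2 : F) = 0 → ∀ g : PF,
      ∃ P : Sylow 2 PF, ((U : Subgroup SLF).map pmk).map (MulAut.conj g).toMonoidHom = P := by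
    intro h2 g
    have : CharP F 2 := CharTwo.of_one_ne_zero_of_two_eq_zero one_ne_zero h2
    let P₀ : Sylow 2 PF := ((SL2.uSylow (F := F) 2).mapSurjective pmk_surjective)
    refine ⟨g • P₀, ?_⟩
    rw [Sylow.coe_subgroup_smul]
    rfl
  constructor
  · intro hb
    by_cases hbot : H = ⊥
    · exact Or.inl hbot
    right
    have borel : ∀ x : OnePoint F, H ≤ pslStab x →
        (∃ a : ℕ, Fintype.card F = 2 ^ a) ∧ ∃ P : Sylow 2 PF, H = P := by
      intro x hx
      obtain ⟨g, hg⟩ := mem_pslStab_infty_le hx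
      obtain ⟨h2, he⟩ := borel_cases h4 h5 hg ((Subgroup.map_eq_bot_iff_of_injective H (MulAut.conj g).injective).not.2 hbot) (hb.map _)
      refine ⟨hpow h2, ?_⟩
      obtain ⟨P, hP⟩ := hsyl h2 g⁻¹
      refine ⟨P, hP ▸ ?_⟩
      rw [← he, Subgroup.map_map]
      ext z
      simp [Subgroup.mem_map, mul_assoc]
    have dihedral : ∀ n, 2 ≤ n → ¬ p ∣ n → (H ≃* DihedralGroup n) → False := fun n hn hpn i =>
      not_isBinary_dihedral h4 h5 hn hpn i hb
    have hinj := ProjectiveSpecialLinearGroup.toPGL_injective (n := Fin 2) (R := F)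
    set H' := H.map (ProjectiveSpecialLinearGroup.toPGL (n := Fin 2) (R := F))
    let e : H ≃* H' := H.equivMapOfInjective _ hinj
    have hodd : ∀ {m : ℕ}, ¬ p ∣ m → 2 ∣ m → (2 : F) ≠ 0 := fun {m} h h' h2 => h (by
      have : CharP F 2 := CharTwo.of_one_ne_zero_of_two_eq_zero one_ne_zero h2
      rwa [CharP.eq F hp this])
    rcases classify_finite' p H' with ⟨x, hx⟩ | ⟨hc, hpn⟩ | ⟨m, hm, hpm, ⟨i⟩⟩ | ⟨h, ⟨i⟩⟩ | ⟨h, ⟨i⟩⟩ |
      ⟨h, ⟨i⟩⟩ | ⟨L, k, hLk⟩
    · exact Or.inl (borel x fun g hg => hx _ ⟨g, hg, rfl⟩)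
    · rw [← Nat.card_congr e.toEquiv] at hpn
      have hcH : IsCyclic H := isCyclic_of_surjective e.symm e.symm.surjective
      obtain ⟨r, hr⟩ := IsCyclic.exists_generator (α := H)
      have hH' : Subgroup.zpowers (r : PF) = H := by
        refine le_antisymm (Subgroup.zpowers_le.2 r.2) fun x hx => ?_
        obtain ⟨j, hj⟩ := hr ⟨x, hx⟩
        exact ⟨j, congrArg Subtype.val hj⟩
      have hr1 : (r : PF) ≠ 1 := fun h => hbot (by rw [← hH', h, Subgroup.zpowers_one_eq_bot])
      have hcard : Nat.card H = orderOf (r : PF) := by rw [← Nat.card_zpowers, hH']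
      obtain ⟨h2, ho, R, hrR, hR⟩ := cyclic_cases hr1 (hcard ▸ hpn) (hH'.symm ▸ hb)
      obtain ⟨a, ha⟩ := hpow h2
      have := hchar a ha
      by_cases hodd' : Odd a
      · exact Or.inr ⟨⟨a, hodd', ha⟩, hcard.trans ho⟩
      · -- a primitive cube root of unity gives a fixed point
        exfalso
        rw [Nat.not_odd_iff_even] at hodd'
        obtain ⟨b, rfl⟩ := hodd'
        have h3 : 3 ∣ Fintype.card F - 1 := by
          rw [ha, ← two_mul, pow_mul]
          exact Nat.sub_one_dvd_pow_sub_one (2 ^ 2) b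
        haveI : Fact (Nat.Prime 3) := ⟨Nat.prime_three⟩
        obtain ⟨w, hw⟩ := exists_prime_orderOf_dvd_card' (G := Fˣ) 3
          (by rwa [Nat.card_units, Nat.card_eq_fintype_card])
        have hw3 : (w : F) ^ 3 = 1 := by
          rw [← Units.val_pow_eq_pow_val, orderOf_dvd_iff_pow_eq_one.1 (dvd_of_eq hw), Units.val_one]
        have hw1 : (w : F) ≠ 1 := fun h => by
          rw [Units.val_eq_one.1 h, orderOf_one] at hw; norm_num at hw
        have hw2 : (w : F) ^ 2 + w + 1 = 0 :=
          (mul_eq_zero.1 (show ((w : F) - 1) * ((w : F) ^ 2 + w + 1) = 0 by linear_combination hw3)).resolve_left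
            (sub_ne_zero.2 hw1)
        have ht4 : tr R ^ 2 ≠ 4 := by
          rw [hR]
          exact fun e => one_ne_zero (show (1 : F) = 0 by linear_combination e + 2 * h2)
        have hsplit : IsSplitTrace (tr R) := by
          rw [hR, isSplitTrace_iff_root]
          exact ⟨w, by linear_combination hw2 - (w : F) * h2⟩
        obtain ⟨d', -, hconj⟩ := exists_isConj_d ht4 hsplit
        obtain ⟨P, hP⟩ := isConj_iff.1 hconj
        have hle : H.map (MulAut.conj (pmk P)).toMonoidHom ≤ (B : Subgroup SLF).map pmk := by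
          rw [← hH', MonoidHom.map_zpowers, Subgroup.zpowers_le, hrR]
          refine ⟨d d', T_le_B (d_mem_T d'), ?_⟩
          rw [← hP]
          simp
        obtain ⟨-, he⟩ := borel_cases h4 h5 hle
          ((Subgroup.map_eq_bot_iff_of_injective H (MulAut.conj (pmk P)).injective).not.2 hbot) (hb.map _)
        have hUc : Nat.card ((U : Subgroup SLF).map pmk) = Fintype.card F := by
          rw [Subgroup.card_map_of_injective, U_card]
          intro x y hxy
          rcases pmk_eq_iff.1 hxy with e | e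
          · exact e
          · rwa [← neg_one_mul, neg_one_eq_one, one_mul] at e
        rw [← he, Subgroup.card_map_of_injective (MulAut.conj (pmk P)).injective, hcard, ho, ha] at hUc
        rcases b with - | b
        · norm_num at hUc
        · rw [← two_mul, mul_add, pow_add] at hUc
          omega
    · exact (dihedral m hm hpm (e.trans i)).elim
    · exact (not_isBinary_a4 h4 h5 (hodd h (by norm_num)) (e.trans i) hb).elim
    · exact (not_isBinary_s4' h4 h5 (hodd h (by norm_num)) (e.trans i) hb).elim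
    · have h2 : (2 : F) ≠ 0 := fun h2 => by
        have : CharP F 2 := CharTwo.of_one_ne_zero_of_two_eq_zero one_ne_zero h2
        rcases h with h | h
        · exact h (CharP.eq F hp this ▸ by norm_num)
        · rw [CharP.eq F hp this] at h; norm_num at h
      exact (not_isBinary_a5' h4 h5 h2 hH (e.trans i) hb).elim
    · exfalso
      haveI : Fintype L := Fintype.ofFinite L
      haveI : CharP L p := (RingHom.charP_iff L.subtype L.subtype.injective p).2 hp
      obtain ⟨l, -, hl⟩ := FiniteField.card L p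
      rw [← Nat.card_eq_fintype_card] at hl
      have eK : H' ≃* H'.map (MulAut.conj k).toMonoidHom :=
        H'.equivMapOfInjective _ (MulAut.conj k).injective
      rcases le_or_gt 4 (Nat.card L) with hr | hr
      · rcases hLk with hk | ⟨-, hk⟩
        · exact subfield_reduce hH L k hk.le (hk.symm ▸ pslImage_le L.subtype) hr (Or.inl hk) hb
        · by_cases h5' : Nat.card L = 5
          · obtain ⟨j⟩ := pslImage_equiv L.subtype
            obtain ⟨j'⟩ := SmallIso.psl_two_card_five (F := L)
              (by rw [← Nat.card_eq_fintype_card, h5'])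
            have h2 : (2 : F) ≠ 0 := by
              refine hodd (m := 2) ?_ (dvd_refl 2)
              intro hd
              have hp2 := (Nat.prime_dvd_prime_iff_eq Fact.out Nat.prime_two).1 hd
              rw [h5'] at hl
              have : 2 ∣ 5 := hl ▸ hp2 ▸ dvd_pow_self p (PNat.ne_zero l)
              norm_num at this
            exact not_isBinary_a5' h4 h5 h2 hH
              ((e.trans eK).trans ((MulEquiv.subgroupCongr hk).trans (j.trans j'))) hb
          · exact subfield_reduce hH L k (hk ▸ pslImage_le L.subtype) hk.ge hr (Or.inr h5') hb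
      · have hL1 : 1 < Nat.card L := by rw [Nat.card_eq_fintype_card]; exact Fintype.one_lt_card
        have hL' : Nat.card L = Fintype.card L := Nat.card_eq_fintype_card
        obtain h | h : Nat.card L = 2 ∨ Nat.card L = 3 := by omega
        · have hp2 : p = 2 := by
            rw [h] at hl
            exact (Nat.prime_dvd_prime_iff_eq Fact.out Nat.prime_two).1 (hl ▸ dvd_pow_self p (PNat.ne_zero l))
          rcases hLk with hk | ⟨hp', -⟩
          · obtain ⟨j⟩ := pgl_two_iso (L := L) (by omega)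
            exact not_isBinary_s3 h4 h5 ((e.trans eK).trans ((MulEquiv.subgroupCongr hk).trans
              ((MonoidHom.ofInjective (pglMap_injective L.subtype)).symm.trans j))) hb
          · exact hp' hp2
        · have hp3 : p = 3 := by
            rw [h] at hl
            exact (Nat.prime_dvd_prime_iff_eq Fact.out Nat.prime_three).1 (hl ▸ dvd_pow_self p (PNat.ne_zero l))
          have h2 : (2 : F) ≠ 0 := hodd (m := 2) (by rw [hp3]; norm_num) (dvd_refl 2)
          rcases hLk with hk | ⟨-, hk⟩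
          · obtain ⟨j⟩ := pgl_three_iso (L := L) (by omega)
            exact not_isBinary_s4' h4 h5 h2 ((e.trans eK).trans ((MulEquiv.subgroupCongr hk).trans
              ((MonoidHom.ofInjective (pglMap_injective L.subtype)).symm.trans j))) hb
          · obtain ⟨j⟩ := pslImage_equiv L.subtype
            obtain ⟨j'⟩ := SmallIso.psl_two_card_three (F := L) (by omega)
            exact not_isBinary_a4 h4 h5 h2
              ((e.trans eK).trans ((MulEquiv.subgroupCongr hk).trans (j.trans j'))) hb
  · rintro (rfl | ⟨⟨a, ha⟩, P, rfl⟩ | ⟨⟨a, hodd, ha⟩, h3⟩)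
    · exact isBinary_bot
    · haveI := hchar a ha
      obtain ⟨Q, hQ⟩ := hsyl (CharTwo.two_eq_zero) 1
      obtain ⟨g, hg⟩ := MulAction.exists_smul_eq PF Q P
      rw [← hg, Sylow.coe_subgroup_smul, ← hQ]
      exact ((isBinary_unipotent (F := F)).map _).map _
    · haveI := hchar a ha
      exact isBinary_three hodd ha h3

end CfsgLib.BinaryPSL
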