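import Mathlib

/-!
Binary coset actions: basic criteria.
-/

set_option autoImplicit false

namespace CfsgLib.BinaryPSL

variable {G : Type*} [Group G]

/-- The action of `G` on the cosets of `H` is binary. -/
def IsBinary (H : Subgroup G) : Prop :=
  ∀ (n : ℕ) (I J : Fin n → G ⧸ H), 2 ≤ n →
    (∀ i j : Fin n, i ≠ j → ∃ g : G, g • I i = J i ∧ g • I j = J j) → ∃ g : G, ∀ i, g • I i = J i

/-- `Triple X K`: a witness against binarity of the action of `K` on the cosets of `X`. -/
def Triple (X K : Subgroup G) : Prop :=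
  ∃ g ∈ K, ∃ k ∈ K, ∃ b c : G, g⁻¹ * b * g ∈ X ∧ k⁻¹ * c * k ∈ X ∧ b * c ∈ X ∧
    ∀ x ∈ X, ∀ y ∈ X, g⁻¹ * x * g ∈ X → k⁻¹ * y * k ∈ X → x * y ≠ b * c

theorem mk_smul_eq_iff {H : Subgroup G} {g x y : G} :
    g • (x : G ⧸ H) = (y : G ⧸ H) ↔ y⁻¹ * g * x ∈ H := by
  rw [MulAction.Quotient.smul_coe, eq_comm, QuotientGroup.eq, smul_eq_mul, mul_assoc]

theorem not_isBinary_of_reps {H : Subgroup G} {n : ℕ} (hn : 2 ≤ n) (x y : Fin n → G)
    (hp : ∀ i j, i ≠ j → ∃ g : G, (y i)⁻¹ * g * x i ∈ H ∧ (y j)⁻¹ * g * x j ∈ H)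
    (hg : ∀ g : G, ∃ i, (y i)⁻¹ * g * x i ∉ H) : ¬ IsBinary H := by
  intro h
  obtain ⟨g, hgg⟩ := h n (fun i => (x i : G ⧸ H)) (fun i => (y i : G ⧸ H)) hn fun i j hij => by
    obtain ⟨g, h1, h2⟩ := hp i j hij
    exact ⟨g, mk_smul_eq_iff.mpr h1, mk_smul_eq_iff.mpr h2⟩
  obtain ⟨i, hi⟩ := hg g
  exact hi (mk_smul_eq_iff.mp (hgg i))

theorem not_isBinary_of_triple {H : Subgroup G} (h : Triple H ⊤) : ¬ IsBinary H := by
  obtain ⟨g, -, k, -, b, c, hb, hc, ha, hno⟩ := h
  refine not_isBinary_of_reps (n := 3) (by norm_num) ![1, g, k] ![1, g, b * c * k] ?_ ?_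
  · intro i j hij
    fin_cases i <;> fin_cases j <;> simp only [ne_eq, not_true_eq_false] at hij
    · exact ⟨1, by simp, by simp⟩
    · exact ⟨b * c, by simpa using ha, by simp [mul_assoc]⟩
    · exact ⟨1, by simp, by simp⟩
    · refine ⟨b, by simpa using hb, ?_⟩
      simpa [mul_assoc] using inv_mem hc
    · exact ⟨b * c, by simp [mul_assoc], by simpa using ha⟩
    · refine ⟨b, ?_, by simpa using hb⟩
      simpa [mul_assoc] using inv_mem hc
  · intro h
    by_contra hcon
    simp only [not_exists, not_not] at hcon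
    have h0 : h ∈ H := by simpa using hcon 0
    have h1 : g⁻¹ * h * g ∈ H := by simpa using hcon 1
    have h2 : k⁻¹ * (b * c)⁻¹ * h * k ∈ H := by simpa [mul_assoc] using hcon 2
    refine hno h h0 (h⁻¹ * (b * c)) (mul_mem (inv_mem h0) ha) h1 ?_ (mul_inv_cancel_left _ _)
    simpa [mul_assoc] using inv_mem h2

/-- A triple for the action of `H` on a suborbit. -/
theorem not_isBinary_of_suborbit_triple {H : Subgroup G} (g : G)
    (h : Triple (H ⊓ H.map (MulAut.conj g).toMonoidHom) H) : ¬ IsBinary H := by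
  obtain ⟨u, hu, v, hv, b, c, hb, hc, ha, hno⟩ := h
  have mem : ∀ w : G, w ∈ H.map (MulAut.conj g).toMonoidHom ↔ g⁻¹ * w * g ∈ H := fun w => by
    rw [Subgroup.mem_map_equiv]; simp
  simp only [Subgroup.mem_inf, mem] at hb hc ha hno
  refine not_isBinary_of_reps (n := 4) (by norm_num) ![1, g, u * g, v * g]
    ![1, g, u * g, b * c * v * g] ?_ ?_
  · have hbg : (u * g)⁻¹ * b * (u * g) ∈ H := by simpa [mul_assoc] using hb.2
    have hcg : (b * c * v * g)⁻¹ * b * (v * g) ∈ H := by simpa [mul_assoc] using inv_mem hc.2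
    intro i j hij
    fin_cases i <;> fin_cases j <;> simp only [ne_eq, not_true_eq_false] at hij
    · exact ⟨1, by simp, by simp⟩
    · exact ⟨1, by simp, by simp⟩
    · exact ⟨b * c, by simpa using ha.1, by simp [mul_assoc]⟩
    · exact ⟨1, by simp, by simp⟩
    · exact ⟨1, by simp, by simp⟩
    · exact ⟨b * c, by simpa using ha.2, by simp [mul_assoc]⟩
    · exact ⟨1, by simp, by simp⟩
    · exact ⟨1, by simp, by simp⟩
    · exact ⟨b, hbg, hcg⟩
    · exact ⟨b * c, by simp [mul_assoc], by simpa using ha.1⟩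
    · exact ⟨b * c, by simp [mul_assoc], by simpa using ha.2⟩
    · exact ⟨b, hcg, hbg⟩
  · intro w
    by_contra hcon
    simp only [not_exists, not_not] at hcon
    have h0 : w ∈ H := by simpa using hcon 0
    have h1 : g⁻¹ * w * g ∈ H := by simpa using hcon 1
    have h2 : g⁻¹ * (u⁻¹ * w * u) * g ∈ H := by simpa [mul_assoc] using hcon 2
    have h3 : g⁻¹ * (v⁻¹ * (b * c)⁻¹ * w * v) * g ∈ H := by simpa [mul_assoc] using hcon 3
    refine hno w ⟨h0, h1⟩ (w⁻¹ * (b * c)) ⟨mul_mem (inv_mem h0) ha.1, ?_⟩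
      ⟨mul_mem (mul_mem (inv_mem hu) h0) hu, h2⟩ ⟨?_, ?_⟩ (mul_inv_cancel_left _ _)
    · simpa [mul_assoc] using mul_mem (inv_mem h1) ha.2
    · exact mul_mem (mul_mem (inv_mem hv) (mul_mem (inv_mem h0) ha.1)) hv
    · simpa [mul_assoc] using inv_mem h3

theorem Triple.map {G' : Type*} [Group G'] {φ : G' →* G} (hφ : Function.Injective φ)
    {X K : Subgroup G'} (h : Triple X K) : Triple (X.map φ) (K.map φ) := by
  obtain ⟨g, hg, k, hk, b, c, hb, hc, ha, hno⟩ := h
  refine ⟨φ g, Subgroup.mem_map_of_mem φ hg, φ k, Subgroup.mem_map_of_mem φ hk, φ b, φ c, ?_, ?_, ?_, ?_⟩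
  · simpa [← map_inv, ← map_mul] using Subgroup.mem_map_of_mem φ hb
  · simpa [← map_inv, ← map_mul] using Subgroup.mem_map_of_mem φ hc
  · simpa [← map_mul] using Subgroup.mem_map_of_mem φ ha
  · rintro _ ⟨x, hx, rfl⟩ _ ⟨y, hy, rfl⟩ hxg hyk he
    rw [← map_inv, ← map_mul, ← map_mul, Subgroup.mem_map_iff_mem hφ] at hxg hyk
    rw [← map_mul, ← map_mul] at he
    exact hno x hx y hy hxg hyk (hφ he)

/-- Binarity is inherited by the action of a point stabiliser on a suborbit. -/
theorem IsBinary.suborbit {H : Subgroup G} (h : IsBinary H) (g : G) :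
    IsBinary ((H.map (MulAut.conj g).toMonoidHom).subgroupOf H) := by
  intro n I J hn hp
  have mem : ∀ w : H, w ∈ (H.map (MulAut.conj g).toMonoidHom).subgroupOf H ↔
      g⁻¹ * (w : G) * g ∈ H := fun w => by
    rw [Subgroup.mem_subgroupOf, Subgroup.mem_map_equiv]; simp
  let f : H ⧸ (H.map (MulAut.conj g).toMonoidHom).subgroupOf H → G ⧸ H :=
    Quotient.lift (fun a : H => (((a : G) * g : G) : G ⧸ H)) fun a b hab => by
      rw [QuotientGroup.eq]
      have := (mem _).mp (QuotientGroup.leftRel_apply.mp hab)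
      simpa [mul_assoc] using this
  have hf : ∀ (w : H) q, (w : G) • f q = f (w • q) := fun w q => by
    induction q using QuotientGroup.induction_on with
    | H a => exact congrArg QuotientGroup.mk (mul_assoc (w : G) a g).symm
  have hinj : Function.Injective f := fun q q' he => by
    induction q using QuotientGroup.induction_on with
    | H a => induction q' using QuotientGroup.induction_on with
      | H b =>
        refine QuotientGroup.eq.mpr ((mem _).mpr ?_)
        have := QuotientGroup.eq.mp he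
        simpa [mul_assoc] using this
  have hsmul : ∀ a : G, a • ((1 : G) : G ⧸ H) = ((1 : G) : G ⧸ H) ↔ a ∈ H := fun a => by
    rw [mk_smul_eq_iff]; simp
  have base : ∀ i, ∃ w : H, (w : G) • f (I i) = f (J i) := fun i => by
    obtain ⟨w, hw⟩ := MulAction.exists_smul_eq H (I i) (J i)
    exact ⟨w, by rw [hf, hw]⟩
  obtain ⟨a, ha⟩ := h (n + 1) (Fin.cons ((1 : G) : G ⧸ H) fun i => f (I i))
    (Fin.cons ((1 : G) : G ⧸ H) fun i => f (J i)) (by omega) (by
      intro i j hij
      induction i using Fin.cases with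
      | zero =>
        induction j using Fin.cases with
        | zero => exact absurd rfl hij
        | succ j =>
          obtain ⟨w, hw⟩ := base j
          exact ⟨w, by simpa using (hsmul _).mpr w.2, by simpa using hw⟩
      | succ i =>
        induction j using Fin.cases with
        | zero =>
          obtain ⟨w, hw⟩ := base i
          exact ⟨w, by simpa using hw, by simpa using (hsmul _).mpr w.2⟩
        | succ j =>
          obtain ⟨w, hw1, hw2⟩ := hp i j fun e => hij (e ▸ rfl)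
          exact ⟨w, by simpa using (hf w (I i)).trans (congrArg f hw1),
            by simpa using (hf w (I j)).trans (congrArg f hw2)⟩)
  have haH : a ∈ H := (hsmul a).mp (by simpa using ha 0)
  exact ⟨⟨a, haH⟩, fun i => hinj (by rw [← hf]; simpa using ha i.succ)⟩

/-- Transport along an isomorphism. -/
theorem IsBinary.map {G' : Type*} [Group G'] {H : Subgroup G} (h : IsBinary H) (e : G ≃* G') :
    IsBinary (H.map e.toMonoidHom) := by
  intro n I J hn hp
  have key : ∀ (a x y : G'), y⁻¹ * a * x ∈ H.map e.toMonoidHom ↔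
      (e.symm y)⁻¹ * e.symm a * e.symm x ∈ H := fun a x y => by
    rw [Subgroup.mem_map_equiv]; simp
  choose x hx using fun i => QuotientGroup.mk_surjective (I i)
  choose y hy using fun i => QuotientGroup.mk_surjective (J i)
  simp only [← hx, ← hy, mk_smul_eq_iff, key] at hp ⊢
  obtain ⟨a, ha⟩ := h n (fun i => (e.symm (x i) : G ⧸ H)) (fun i => (e.symm (y i) : G ⧸ H)) hn
    fun i j hij => by
      obtain ⟨a, h1, h2⟩ := hp i j hij
      exact ⟨e.symm a, mk_smul_eq_iff.mpr h1, mk_smul_eq_iff.mpr h2⟩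
  exact ⟨e a, fun i => by simpa using mk_smul_eq_iff.mp (ha i)⟩

theorem isBinary_map_iff {G' : Type*} [Group G'] {H : Subgroup G} (e : G ≃* G') :
    IsBinary (H.map e.toMonoidHom) ↔ IsBinary H := by
  refine ⟨fun h => ?_, fun h => h.map e⟩
  have := h.map e.symm
  rwa [Subgroup.map_map, show e.symm.toMonoidHom.comp e.toMonoidHom = MonoidHom.id G from
    MonoidHom.ext e.symm_apply_apply, Subgroup.map_id] at this

theorem isBinary_bot : IsBinary (⊥ : Subgroup G) := by
  intro n I J hn hp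
  choose x hx using fun i => QuotientGroup.mk_surjective (I i)
  choose y hy using fun i => QuotientGroup.mk_surjective (J i)
  simp only [← hx, ← hy, mk_smul_eq_iff, Subgroup.mem_bot] at hp ⊢
  have key : ∀ {i : Fin n} {g : G}, (y i)⁻¹ * g * x i = 1 → g = y i * (x i)⁻¹ := fun {i g} h => by
    rw [mul_assoc, inv_mul_eq_one] at h
    rw [h, mul_inv_cancel_right]
  refine ⟨y ⟨0, by omega⟩ * (x ⟨0, by omega⟩)⁻¹, fun i => ?_⟩
  by_cases hi : i = ⟨0, by omega⟩
  · subst hi; simp [mul_assoc]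
  · obtain ⟨g, h1, h2⟩ := hp i ⟨0, by omega⟩ hi
    rw [← key h2, key h1]; simp [mul_assoc]

/-- A subgroup without triangles gives a binary action. -/
theorem isBinary_of_no_triangle {H : Subgroup G}
    (htri : ∀ (g k a b c : G), a ∈ H → g⁻¹ * b * g ∈ H → k⁻¹ * c * k ∈ H → a = b * c → a ≠ 1 →
      g ∈ Subgroup.normalizer (H : Set G) ∨ k ∈ Subgroup.normalizer (H : Set G)) : IsBinary H := by
  intro n I J hn hp
  choose x hx using fun i => QuotientGroup.mk_surjective (I i)
  choose y hy using fun i => QuotientGroup.mk_surjective (J i)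
  simp only [← hx, ← hy, mk_smul_eq_iff] at hp ⊢
  -- move the first point to the base coset
  set i₀ : Fin n := ⟨0, by omega⟩
  set x' : Fin n → G := fun i => (x i₀)⁻¹ * x i with hx'
  set y' : Fin n → G := fun i => (y i₀)⁻¹ * y i with hy'
  suffices H' : ∃ a, ∀ i, (y' i)⁻¹ * a * x' i ∈ H by
    obtain ⟨a, ha⟩ := H'
    exact ⟨y i₀ * a * (x i₀)⁻¹, fun i => by simpa [hx', hy', mul_assoc] using ha i⟩
  have hp' : ∀ i j, i ≠ j → ∃ a, (y' i)⁻¹ * a * x' i ∈ H ∧ (y' j)⁻¹ * a * x' j ∈ H := fun i j hij => by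
    obtain ⟨a, h1, h2⟩ := hp i j hij
    exact ⟨(y i₀)⁻¹ * a * x i₀, by simpa [hx', hy', mul_assoc] using h1,
      by simpa [hx', hy', mul_assoc] using h2⟩
  have h0x : x' i₀ = 1 := inv_mul_cancel _
  have h0y : y' i₀ = 1 := inv_mul_cancel _
  have hbase : ∀ i, ∃ a ∈ H, (y' i)⁻¹ * a * x' i ∈ H := fun i => by
    by_cases hi : i = i₀
    · exact ⟨1, one_mem H, by simp [hi, h0x, h0y]⟩
    · obtain ⟨a, h1, h2⟩ := hp' i i₀ hi
      exact ⟨a, by simpa [h0x, h0y] using h2, h1⟩
  have hfix : ∀ i a, x' i ∈ Subgroup.normalizer (H : Set G) → a ∈ H → (x' i)⁻¹ * a * x' i ∈ H :=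
    fun i a hi ha => by
      simpa using (Subgroup.mem_normalizer_iff.mp (inv_mem hi) a).mp ha
  by_cases hall : ∀ i, x' i ∈ Subgroup.normalizer (H : Set G)
  · refine ⟨1, fun i => ?_⟩
    obtain ⟨a, ha, h⟩ := hbase i
    simpa [mul_assoc] using mul_mem h (inv_mem (hfix i a (hall i) ha))
  · push Not at hall
    obtain ⟨i₁, hi₁⟩ := hall
    obtain ⟨a₁, ha₁, h₁⟩ := hbase i₁
    refine ⟨a₁, fun i => ?_⟩
    by_cases hii : i = i₁
    · rwa [hii]
    obtain ⟨a, ha, h⟩ := hbase i
    by_cases hi : x' i ∈ Subgroup.normalizer (H : Set G)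
    · simpa [mul_assoc] using mul_mem h (hfix i _ hi (mul_mem (inv_mem ha) ha₁))
    obtain ⟨g, hg1, hg2⟩ := hp' i₁ i (Ne.symm hii)
    have hb : (x' i₁)⁻¹ * (a₁⁻¹ * g) * x' i₁ ∈ H := by
      simpa [mul_assoc] using mul_mem (inv_mem h₁) hg1
    have hc : (x' i)⁻¹ * (g⁻¹ * a) * x' i ∈ H := by
      simpa [mul_assoc] using mul_mem (inv_mem hg2) h
    have he : a₁⁻¹ * a = a₁⁻¹ * g * (g⁻¹ * a) := by simp [mul_assoc]
    have : a₁ = a := by
      by_contra hne
      rcases htri _ _ _ _ _ (mul_mem (inv_mem ha₁) ha) hb hc he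
        (fun h => hne (inv_mul_eq_one.mp h)) with h' | h'
      · exact hi₁ h'
      · exact hi h'
    rwa [this]

end CfsgLib.BinaryPSL
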