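import Cfsg.Agent.BinaryPSL.Facts

/-!
Subgroups of a Borel subgroup of `PSL(2, F)`: only the full unipotent group in even characteristic
gives a binary action.
-/

set_option autoImplicit false

namespace CfsgLib.BinaryPSL

open CfsgLib.SL2

section Additive

variable {F : Type*} [Field F] [Fintype F] [CharP F 2]

/-- The part of `A` that `s` maps into `A`. -/
def mulInto (A : AddSubgroup F) (s : F) : AddSubgroup F :=
  A ⊓ A.comap (AddMonoidHom.mulLeft s)

theorem mem_mulInto {A : AddSubgroup F} {s y : F} : y ∈ mulInto A s ↔ y ∈ A ∧ s * y ∈ A := Iff.rfl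

theorem exists_small_mulInto (h4 : 4 ≤ Fintype.card F) {A : AddSubgroup F} (hA : A ≠ ⊥) :
    ∃ s : F, s ≠ 0 ∧ s ≠ 1 ∧
      Nat.card (mulInto A s) * Fintype.card F ≤ max (Fintype.card F) (Nat.card A * Nat.card A) := by
  classical
  by_contra hcon
  push Not at hcon
  have two_pow : ∀ X : AddSubgroup F, ∃ k, Nat.card X = 2 ^ k := fun X => by
    haveI : Fact (Nat.Prime 2) := ⟨Nat.prime_two⟩
    obtain ⟨n, -, hn⟩ := FiniteField.card F 2
    obtain ⟨k, -, hk⟩ := (Nat.dvd_prime_pow Nat.prime_two).1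
      (show Nat.card X ∣ 2 ^ (n : ℕ) by
        rw [← hn, ← Nat.card_eq_fintype_card]; exact AddSubgroup.card_addSubgroup_dvd_card X)
    exact ⟨k, hk⟩
  obtain ⟨f, hf⟩ : ∃ f, Fintype.card F = 2 ^ f := by
    obtain ⟨n, -, hn⟩ := FiniteField.card F 2
    exact ⟨n, hn⟩
  obtain ⟨k, hk⟩ := two_pow A
  have hk0 : k ≠ 0 := fun h => hA (AddSubgroup.eq_bot_of_card_eq _ (by rw [hk, h, pow_zero]))
  set S := (Finset.univ : Finset F).filter (fun s => s ≠ 0 ∧ s ≠ 1)
  set A' := ((Finset.univ : Finset F).filter (fun x => x ∈ A)).erase 0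
  have hS : S.card = Fintype.card F - 2 := by
    have : S = ({0, 1} : Finset F)ᶜ := by ext; simp [S]
    rw [this, Finset.card_compl, Finset.card_pair zero_ne_one]
  have hA' : A'.card = 2 ^ k - 1 := by
    rw [Finset.card_erase_of_mem (by simp [zero_mem]), ← Fintype.card_subtype,
      ← Nat.card_eq_fintype_card]
    exact congrArg (· - 1) hk
  let W : F → Finset F := fun s => A'.filter (fun y => s * y ∈ A)
  have hW : ∀ s, (W s).card + 1 = Nat.card (mulInto A s) := fun s => by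
    have h1 : W s = ((Finset.univ : Finset F).filter (fun y => y ∈ mulInto A s)).erase 0 := by
      ext y; simp [W, A', mem_mulInto, and_assoc]
    rw [h1, Finset.card_erase_add_one (by simp [zero_mem]), ← Fintype.card_subtype,
      ← Nat.card_eq_fintype_card]
  have hsum : ∑ s ∈ S, (W s).card ≤ (2 ^ k - 1) * (2 ^ k - 2) := by
    rw [← Finset.card_sigma]
    have hmaps : ∀ p ∈ S.sigma W, (fun p : Σ _ : F, F => (p.2, p.1 * p.2)) p ∈ A'.offDiag := by
      rintro ⟨s, y⟩ hp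
      simp only [Finset.mem_sigma, S, W, A', Finset.mem_filter, Finset.mem_univ, true_and,
        Finset.mem_erase] at hp
      obtain ⟨⟨hs0, hs1⟩, ⟨hy0, hy⟩, hsy⟩ := hp
      simp only [Finset.mem_offDiag, A', Finset.mem_erase, Finset.mem_filter, Finset.mem_univ,
        true_and]
      exact ⟨⟨hy0, hy⟩, ⟨mul_ne_zero hs0 hy0, hsy⟩,
        fun e => hs1 (mul_right_cancel₀ hy0 (e.symm.trans (one_mul y).symm))⟩
    refine (Finset.card_le_card_of_injOn _ hmaps ?_).trans (le_of_eq ?_)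
    · rintro ⟨s, y⟩ hp ⟨s', y'⟩ - he
      simp only [Prod.mk.injEq] at he
      obtain ⟨rfl, he⟩ := he
      have hy0 : y ≠ 0 := (Finset.mem_erase.1 (Finset.mem_filter.1 (Finset.mem_sigma.1 hp).2).1).1
      rw [mul_right_cancel₀ hy0 he]
    · rw [Finset.offDiag_card, hA', show 2 ^ k - 2 = 2 ^ k - 1 - 1 by omega]
      simp [Nat.mul_sub_one, Nat.sub_one_mul]
  set q := Fintype.card F
  rcases le_or_gt (2 ^ k * 2 ^ k) q with hle | hlt
  · have h1 : S.card ≤ ∑ s ∈ S, (W s).card := by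
      rw [Finset.card_eq_sum_ones]
      refine Finset.sum_le_sum fun s hs => ?_
      have := hcon s (Finset.mem_filter.1 hs).2.1 (Finset.mem_filter.1 hs).2.2
      rw [← hW, hk, max_eq_left hle] at this
      by_contra h0
      push Not at h0
      rw [Nat.lt_one_iff.1 h0] at this
      omega
    have h2 := h1.trans hsum
    rw [hS] at h2
    obtain ⟨a, ha⟩ : ∃ a, 2 ^ k = a + 2 := ⟨2 ^ k - 2, by
      have : 2 ≤ 2 ^ k := le_self_pow₀ (by norm_num) hk0
      omega⟩
    rw [ha, show a + 2 - 1 = a + 1 by omega, show a + 2 - 2 = a by omega] at h2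
    rw [ha] at hle
    have : (a + 2) * (a + 2) = (a + 1) * a + (3 * a + 4) := by ring
    omega
  · obtain ⟨e, he⟩ : ∃ e, k + k = f + (e + 1) := ⟨k + k - f - 1, by
      rw [hf, ← pow_add] at hlt
      have := (Nat.pow_lt_pow_iff_right (by norm_num)).1 hlt
      omega⟩
    set M := 2 ^ (e + 1) with hM
    have hAA : 2 ^ k * 2 ^ k = q * M := by rw [hf, hM, ← pow_add, ← pow_add, he]
    have h1 : S.card * (2 * M - 1) ≤ ∑ s ∈ S, (W s).card := by
      rw [← smul_eq_mul, ← Finset.sum_const]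
      refine Finset.sum_le_sum fun s hs => ?_
      have h := hcon s (Finset.mem_filter.1 hs).2.1 (Finset.mem_filter.1 hs).2.2
      obtain ⟨j, hj⟩ := two_pow (mulInto A s)
      rw [hj, hk, max_eq_right hlt.le, hAA, mul_comm q M] at h
      have hMj : M < 2 ^ j := Nat.lt_of_mul_lt_mul_right h
      rw [hM] at hMj
      have : e + 1 < j := (Nat.pow_lt_pow_iff_right (by norm_num)).1 hMj
      have : 2 ^ (e + 2) ≤ 2 ^ j := Nat.pow_le_pow_right (by norm_num) (by omega)
      rw [pow_succ 2 (e + 1), ← hM] at this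
      have := hW s
      omega
    have h2 := h1.trans hsum
    rw [hS] at h2
    have hM2 : 2 ≤ M := le_self_pow₀ (by norm_num) (by omega)
    have ha : 2 ≤ 2 ^ k := le_self_pow₀ (by norm_num) hk0
    obtain ⟨a, ha'⟩ : ∃ a, 2 ^ k = a + 2 := ⟨2 ^ k - 2, by omega⟩
    obtain ⟨r, hr⟩ : ∃ r, q = r + 4 := ⟨q - 4, by omega⟩
    obtain ⟨N, hN⟩ : ∃ N, M = N + 2 := ⟨M - 2, by omega⟩
    rw [ha', hr, hN] at hAA
    rw [ha', hr, hN, show a + 2 - 1 = a + 1 by omega, show a + 2 - 2 = a by omega,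
      show r + 4 - 2 = r + 2 by omega, show 2 * (N + 2) - 1 = 2 * N + 3 by omega] at h2
    nlinarith

end Additive

variable {F : Type*} [Field F]

local notation "SLF" => Matrix.SpecialLinearGroup (Fin 2) F
local notation "PF" => Matrix.ProjectiveSpecialLinearGroup (Fin 2) F

theorem mem_borel {x : PF} (hx : x ∈ (B : Subgroup SLF).map pmk) :
    ∃ (t : F) (a : Fˣ), x = pmk (u t * d a) := by
  obtain ⟨g, hg, rfl⟩ := hx
  obtain ⟨t, a, rfl⟩ := eq_u_mul_d hg
  exact ⟨t, a, rfl⟩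

theorem pmk_mem_U_iff {t : F} {a : Fˣ} :
    pmk (u t * d a) ∈ (U : Subgroup SLF).map pmk ↔ (a : F) * a = 1 := by
  constructor
  · rintro ⟨g, hg, he⟩
    obtain ⟨s, rfl⟩ := mem_U.1 hg
    rcases pmk_eq_iff.1 he with e | e <;> have := congrArg (fun M : SLF => M 0 0) e <;>
      simp [Matrix.mul_apply, Fin.sum_univ_two] at this
    · rw [← this, one_mul]
    · linear_combination ((a : F) - 1) * this
  · intro h
    rcases mul_self_eq_one_iff.1 h with e | e
    · rw [show a = 1 from Units.ext e, map_one, mul_one]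
      exact ⟨u t, u_mem_U t, rfl⟩
    · rw [show a = -1 from Units.ext (by simpa using e), d_neg_one, mul_neg_one, pmk_neg]
      exact ⟨u t, u_mem_U t, rfl⟩

theorem pmk_u_inj {s r : F} (h : pmk (u s : SLF) = pmk (u r)) : s = r := by
  rcases pmk_eq_iff.1 h with e | e <;> have h00 := congrArg (fun M : SLF => M 0 0) e <;>
    have h01 := congrArg (fun M : SLF => M 0 1) e <;> simp at h00 h01
  · exact h01
  · linear_combination h01 - r * h00

theorem u_zero : u (0 : F) = (1 : SLF) := by simpa using u_pow (0 : F) 0 |>.symm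

theorem conj_u_borel (t s : F) (a : Fˣ) :
    pmk (u t * d a) * pmk (u s) * (pmk (u t * d a))⁻¹ = (pmk (u ((a : F) ^ 2 * s)) : PF) := by
  rw [← map_inv, ← map_mul, ← map_mul]
  congr 1
  calc u t * d a * u s * (u t * d a)⁻¹ = u t * (d a * u s * (d a)⁻¹) * (u t)⁻¹ := by group
    _ = u t * u ((a : F) ^ 2 * s) * u (-t) := by rw [d_conj_u, u_neg]
    _ = u ((a : F) ^ 2 * s) := by rw [← u_add, ← u_add]; congr 1; ring

theorem commute_U {x y : PF} (hx : x ∈ (U : Subgroup SLF).map pmk)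
    (hy : y ∈ (U : Subgroup SLF).map pmk) : Commute x y := by
  obtain ⟨g, hg, rfl⟩ := hx
  obtain ⟨k, hk, rfl⟩ := hy
  obtain ⟨s, rfl⟩ := mem_U.1 hg
  obtain ⟨r, rfl⟩ := mem_U.1 hk
  exact (show Commute (u s) (u r) by rw [Commute, SemiconjBy, ← u_add, ← u_add, add_comm]).map pmk

theorem normalizes_U {h x : PF} (hh : h ∈ (B : Subgroup SLF).map pmk)
    (hx : x ∈ (U : Subgroup SLF).map pmk) : h * x * h⁻¹ ∈ (U : Subgroup SLF).map pmk := by
  obtain ⟨t, a, rfl⟩ := mem_borel hh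
  obtain ⟨g, hg, rfl⟩ := hx
  obtain ⟨s, rfl⟩ := mem_U.1 hg
  rw [conj_u_borel]
  exact ⟨_, u_mem_U _, rfl⟩

theorem fixed_point_free {h x : PF} (hh : h ∈ (B : Subgroup SLF).map pmk)
    (hhU : h ∉ (U : Subgroup SLF).map pmk) (hx : x ∈ (U : Subgroup SLF).map pmk) (hc : Commute h x) :
    x = 1 := by
  obtain ⟨t, a, rfl⟩ := mem_borel hh
  obtain ⟨g, hg, rfl⟩ := hx
  obtain ⟨s, rfl⟩ := mem_U.1 hg
  have h1 := conj_u_borel t s a
  rw [hc.eq, mul_inv_cancel_right] at h1
  have h2 := pmk_u_inj h1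
  rw [pmk_mem_U_iff] at hhU
  have hs : s = 0 :=
    (mul_eq_zero.1 (show ((a : F) * a - 1) * s = 0 by linear_combination -h2)).resolve_left
      (sub_ne_zero.2 hhU)
  rw [hs, u_zero, map_one]

theorem mul_self_involution {x : PF} (hx : x ∈ (B : Subgroup SLF).map pmk)
    (hxU : x ∉ (U : Subgroup SLF).map pmk) (hxx : x * x ∈ (U : Subgroup SLF).map pmk) :
    (2 : F) ≠ 0 ∧ x * x = 1 ∧ ∀ y ∈ (U : Subgroup SLF).map pmk, x * y * x⁻¹ = y⁻¹ := by
  obtain ⟨t, a, rfl⟩ := mem_borel hx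
  rw [pmk_mem_U_iff] at hxU
  have he : pmk (u t * d a) * pmk (u t * d a) = (pmk (u (t + (a : F) ^ 2 * t) * d (a * a)) : PF) := by
    rw [← map_mul]
    congr 1
    calc u t * d a * (u t * d a) = u t * (d a * u t * (d a)⁻¹) * (d a * d a) := by group
      _ = _ := by rw [d_conj_u, ← u_add, ← map_mul]
  rw [he, pmk_mem_U_iff] at hxx
  have ha : (a : F) * a = -1 := by
    rw [Units.val_mul] at hxx
    rcases mul_self_eq_one_iff.1 hxx with e | e
    · exact absurd e hxU
    · exact e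
  refine ⟨fun h2 => hxU (by linear_combination ha + h2 * 0 - h2), ?_, ?_⟩
  · rw [he, pow_two, ha, show t + -1 * t = 0 by ring, u_zero, one_mul,
      show a * a = -1 from Units.ext (by simpa using ha), d_neg_one]
    exact pmk_eq_one_iff.2 (Or.inr rfl)
  · rintro _ ⟨g, hg, rfl⟩
    obtain ⟨s, rfl⟩ := mem_U.1 hg
    rw [conj_u_borel, pow_two, ha, neg_one_mul, u_neg, map_inv]

variable [Fintype F]

theorem triple_unipotent_odd (h2 : (2 : F) ≠ 0) {H : Subgroup PF}
    (hHU : H ≤ (U : Subgroup SLF).map pmk) (hne : H ≠ ⊥) : ¬ IsBinary H := by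
  obtain ⟨⟨h, hh⟩, hne'⟩ : ∃ h : H, h ≠ 1 := by
    haveI := (Subgroup.nontrivial_iff_ne_bot H).2 hne
    exact exists_ne 1
  obtain ⟨g, hg, rfl⟩ := hHU hh
  obtain ⟨x, rfl⟩ := mem_U.1 hg
  have hx : x ≠ 0 := fun e => hne' (Subtype.ext (by simp [e, u_zero]))
  set G₁ : SLF := l (2 / x)
  set K₁ : SLF := w * d (Units.mk0 (2 / x) (div_ne_zero h2 hx))
  have hprod : pmk G₁ * pmk (u (-x)) * (pmk G₁)⁻¹ * (pmk K₁ * pmk (u (-x)) * (pmk K₁)⁻¹) =
      (pmk (u x) : PF) := by
    rw [← map_inv, ← map_inv, ← map_mul, ← map_mul, ← map_mul, ← map_mul, ← map_mul, pmk_eq_iff]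
    right
    have hK : K₁ * u (-x) * K₁⁻¹ = l (4 / x) := by
      set c : Fˣ := Units.mk0 (2 / x) (div_ne_zero h2 hx) with hc
      calc K₁ * u (-x) * K₁⁻¹ = w * (d c * u (-x) * (d c)⁻¹) * w⁻¹ := by
            show w * d c * u (-x) * (w * d c)⁻¹ = _
            group
        _ = l (4 / x) := by
          rw [d_conj_u, w_conj_u]
          congr 1
          rw [show (c : F) = 2 / x from rfl]
          field_simp
          ring
    rw [hK]
    simp only [G₁, ← l_neg]
    apply ext4 <;> simp [Matrix.mul_apply, Fin.sum_univ_two] <;> field_simp <;> ring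
  have hTI : ∀ (M : SLF), M 1 0 ≠ 0 → ∀ z ∈ H, (pmk M)⁻¹ * z * pmk M ∈ H → z = 1 := by
    intro M hM z hz hzM
    obtain ⟨g, hg, rfl⟩ := hHU hz
    obtain ⟨s, rfl⟩ := mem_U.1 hg
    obtain ⟨g', hg', he⟩ := hHU hzM
    rw [← map_inv, ← map_mul, ← map_mul] at he
    have h10 : (M⁻¹ * u s * M) 1 0 = 0 := by
      rcases pmk_eq_iff.1 he with e | e
      · rw [← e]; exact (mem_U_iff_entries.1 hg').2.1
      · rw [← neg_eq_iff_eq_neg] at e
        rw [← e]
        simp [(mem_U_iff_entries.1 hg').2.1]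
    simp [Matrix.mul_apply, Fin.sum_univ_two, Matrix.SpecialLinearGroup.coe_inv,
      Matrix.adjugate_fin_two] at h10
    have hs : s = 0 :=
      (mul_eq_zero.1 (show s * (M 1 0 * M 1 0) = 0 by linear_combination -h10)).resolve_right
        (mul_ne_zero hM hM)
    rw [hs, u_zero, map_one]
  have hinv : pmk (u (-x)) ∈ H := by rw [u_neg, map_inv]; exact inv_mem hh
  refine not_isBinary_of_triple ⟨pmk G₁, trivial, pmk K₁, trivial,
    pmk G₁ * pmk (u (-x)) * (pmk G₁)⁻¹, pmk K₁ * pmk (u (-x)) * (pmk K₁)⁻¹,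
    by simpa [mul_assoc] using hinv, by simpa [mul_assoc] using hinv, by rwa [hprod], ?_⟩
  intro a ha b hb hag hbk he
  rw [hprod, hTI G₁ (by simp [G₁, h2, hx]) a ha hag,
    hTI K₁ (by simp [K₁, Matrix.mul_apply, Fin.sum_univ_two, w, h2, hx]) b hb hbk, one_mul] at he
  exact hx (pmk_u_inj (he.symm.trans (by rw [u_zero, map_one])))

theorem triple_unipotent_even [CharP F 2] (h4 : 4 ≤ Fintype.card F) {H : Subgroup PF}
    (hHU : H ≤ (U : Subgroup SLF).map pmk) (hne : H ≠ ⊥) (hlt : H ≠ (U : Subgroup SLF).map pmk) :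
    ¬ IsBinary H := by
  classical
  let A : AddSubgroup F :=
    { carrier := {s | pmk (u s) ∈ H}
      add_mem' := fun {s r} hs hr => by
        show pmk (u (s + r)) ∈ H
        rw [u_add, map_mul]
        exact mul_mem hs hr
      zero_mem' := by show pmk (u (0 : F)) ∈ H; rw [u_zero, map_one]; exact one_mem H
      neg_mem' := fun {s} hs => by show pmk (u (-s)) ∈ H; rw [u_neg, map_inv]; exact inv_mem hs }
  have hmem : ∀ s, s ∈ A ↔ pmk (u s) ∈ H := fun s => Iff.rfl
  have hrep : ∀ x ∈ H, ∃ s ∈ A, x = pmk (u s) := fun x hx => by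
    obtain ⟨g, hg, rfl⟩ := hHU hx
    obtain ⟨s, rfl⟩ := mem_U.1 hg
    exact ⟨s, hx, rfl⟩
  have hA : A ≠ ⊥ := fun e => hne (by
    rw [Subgroup.eq_bot_iff_forall]
    intro x hx
    obtain ⟨s, hs, rfl⟩ := hrep x hx
    rw [e] at hs
    rw [AddSubgroup.mem_bot.1 hs, u_zero, map_one])
  have hAtop : A ≠ ⊤ := fun e => hlt (le_antisymm hHU (by
    rintro _ ⟨g, hg, rfl⟩
    obtain ⟨s, rfl⟩ := mem_U.1 hg
    exact (hmem s).1 (e ▸ AddSubgroup.mem_top s)))
  -- witnesses from a relation `a = σ x + τ y`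
  suffices key : ∃ σ τ : F, σ ≠ 0 ∧ τ ≠ 0 ∧ ∃ a ∈ A, (∃ x ∈ A, ∃ y ∈ A, σ * x + τ * y = a) ∧
      ∀ x ∈ A, ∀ y ∈ A, σ⁻¹ * x ∈ A → τ⁻¹ * y ∈ A → x + y ≠ a by
    obtain ⟨σ, τ, hσ, hτ, a, ha, ⟨x, hx, y, hy, he⟩, hno⟩ := key
    have hroot : ∀ c : F, c ≠ 0 → ∃ μ : Fˣ, (μ : F) ^ 2 = c := fun c hc => by
      obtain ⟨r, hr⟩ := FiniteField.isSquare_of_char_two (ringChar.eq F 2) c
      exact ⟨Units.mk0 r (fun h => hc (by rw [hr, h, mul_zero])), by simp [pow_two, hr]⟩
    obtain ⟨μ, hμ⟩ := hroot σ hσ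
    obtain ⟨ν, hν⟩ := hroot τ hτ
    have hconj : ∀ (e : Fˣ) (s : F), pmk (d e) * pmk (u s) * (pmk (d e))⁻¹ =
        (pmk (u ((e : F) ^ 2 * s)) : PF) := fun e s => by
      have := conj_u_borel 0 s e
      rwa [u_zero, one_mul] at this
    have hback : ∀ (e : Fˣ) (s : F), pmk (u s) ∈ H → (pmk (d e))⁻¹ * pmk (u s) * pmk (d e) ∈ H →
        ((e : F) ^ 2)⁻¹ * s ∈ A := fun e s _ h => by
      obtain ⟨r, hr, hre⟩ := hrep _ h
      have := congrArg (fun z => pmk (d e) * z * (pmk (d e))⁻¹) hre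
      simp only [hconj] at this
      have hs : s = (e : F) ^ 2 * r := pmk_u_inj (by simpa [mul_assoc] using this)
      rwa [hs, inv_mul_cancel_left₀ (pow_ne_zero 2 e.ne_zero)]
    refine not_isBinary_of_triple ⟨pmk (d μ), trivial, pmk (d ν), trivial,
      pmk (u (σ * x)), pmk (u (τ * y)), ?_, ?_, ?_, ?_⟩
    · rw [← hμ, ← hconj]; simpa [mul_assoc] using (hmem x).1 hx
    · rw [← hν, ← hconj]; simpa [mul_assoc] using (hmem y).1 hy
    · rw [← map_mul, ← u_add, he]; exact ha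
    · intro z hz z' hz' hzg hzk hzz
      obtain ⟨s, hs, rfl⟩ := hrep z hz
      obtain ⟨r, hr, rfl⟩ := hrep z' hz'
      rw [← map_mul, ← u_add, ← map_mul, ← u_add, he] at hzz
      exact hno s hs r hr (hμ ▸ hback μ s hz hzg) (hν ▸ hback ν r hz' hzk) (pmk_u_inj hzz)
  obtain ⟨s, hs0, hs1, hcard⟩ := exists_small_mulInto h4 hA
  have hs1' : 1 + s ≠ 0 := fun e => hs1 (by rw [eq_neg_of_add_eq_zero_right e, CharTwo.neg_eq])
  rcases le_or_gt (Nat.card A * Nat.card A) (Fintype.card F) with hle | hgt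
  · rw [max_eq_left hle] at hcard
    have hW : ∀ y, y ∈ A → s * y ∈ A → y = 0 := fun y hy hsy => by
      have h1 : Nat.card (mulInto A s) ≤ 1 :=
        Nat.le_of_mul_le_mul_right (hcard.trans (le_of_eq (one_mul _).symm)) (by omega)
      have := AddSubgroup.eq_bot_of_card_le _ h1
      exact AddSubgroup.mem_bot.1 (this ▸ mem_mulInto.2 ⟨hy, hsy⟩)
    obtain ⟨⟨a, ha⟩, ha0⟩ : ∃ a : A, a ≠ 0 := by
      haveI := (AddSubgroup.nontrivial_iff_ne_bot A).2 hA
      exact exists_ne 0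
    refine ⟨s, 1 + s, hs0, hs1', a, ha, ⟨a, ha, a, ha, ?_⟩, fun x hx y hy hxs hys e => ?_⟩
    · linear_combination (CharTwo.two_eq_zero (R := F)) * (s * a)
    · have hx0 : x = 0 := by
        have := hW _ hxs (by rwa [mul_inv_cancel_left₀ hs0])
        exact (mul_eq_zero.1 this).resolve_left (inv_ne_zero hs0)
      have hy0 : y = 0 := by
        have h := hW _ hys (by
          have : s * ((1 + s)⁻¹ * y) = y + (1 + s)⁻¹ * y := by
            field_simp
            linear_combination -(CharTwo.two_eq_zero (R := F)) * y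
          rw [this]; exact add_mem hy hys)
        exact (mul_eq_zero.1 h).resolve_left (inv_ne_zero hs1')
      exact ha0 (Subtype.ext (by simpa [hx0, hy0] using e.symm))
  · rw [max_eq_right hgt.le] at hcard
    have hne' : mulInto A s ≠ A := fun e => by
      rw [e] at hcard
      have hA1 : Fintype.card F ≤ Nat.card A := Nat.le_of_mul_le_mul_left hcard Nat.card_pos
      exact hAtop (AddSubgroup.eq_top_of_le_card _ (by rwa [Nat.card_eq_fintype_card (α := F)]))
    obtain ⟨a, ha, haW⟩ := SetLike.exists_of_lt (lt_of_le_of_ne inf_le_left hne')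
    refine ⟨s⁻¹, (1 + s)⁻¹, inv_ne_zero hs0, inv_ne_zero hs1', a, ha, ?_, fun x hx y hy hxs hys e =>
      haW ?_⟩
    · let φ : A × A →+ F :=
        { toFun := fun p => s⁻¹ * p.1 + (1 + s)⁻¹ * p.2
          map_zero' := by simp
          map_add' := fun p p' => by simp; ring }
      have hker : ∀ p ∈ φ.ker, (p.1 : F) = s * (p.1 + p.2) := by
        rintro ⟨x, y⟩ h
        have h' : s⁻¹ * (x : F) + (1 + s)⁻¹ * (y : F) = 0 := h
        field_simp at h'
        linear_combination h' - (CharTwo.two_eq_zero (R := F)) * (s * ((x : F) + y))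
      have hle : Nat.card φ.ker ≤ Nat.card (mulInto A s) := by
        refine Nat.card_le_card_of_injective (fun p => ⟨(p.1.1 : F) + p.1.2,
          mem_mulInto.2 ⟨add_mem p.1.1.2 p.1.2.2, (hker _ p.2) ▸ p.1.1.2⟩⟩) fun p p' h => ?_
        have h' : (p.1.1 : F) + p.1.2 = p'.1.1 + p'.1.2 := congrArg Subtype.val h
        have h1 : (p.1.1 : F) = p'.1.1 := by rw [hker _ p.2, hker _ p'.2, h']
        rw [h1] at h'
        exact Subtype.ext (Prod.ext (Subtype.ext h1) (Subtype.ext (add_left_cancel h')))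
      have hmul := AddSubgroup.card_mul_index φ.ker
      rw [Nat.card_prod, AddSubgroup.index_ker] at hmul
      have htop : φ.range = ⊤ := by
        refine AddSubgroup.eq_top_of_le_card _ ?_
        rw [Nat.card_eq_fintype_card (α := F)]
        refine Nat.le_of_mul_le_mul_left ?_ (Nat.card_pos (α := mulInto A s))
        exact hcard.trans (hmul ▸ Nat.mul_le_mul_right _ hle)
      obtain ⟨⟨x, y⟩, hxy⟩ := (htop ▸ AddSubgroup.mem_top a : a ∈ φ.range)
      exact ⟨x, x.2, y, y.2, hxy⟩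
    · rw [inv_inv] at hxs hys
      have h1 : x ∈ mulInto A s := mem_mulInto.2 ⟨hx, hxs⟩
      have h2 : y ∈ mulInto A s := mem_mulInto.2 ⟨hy, by
        have := add_mem hys hy
        rwa [show (1 + s) * y + y = s * y by
          linear_combination (CharTwo.two_eq_zero (R := F)) * y] at this⟩
      exact e ▸ add_mem h1 h2

theorem not_isBinary_borel_full (h4 : 4 ≤ Fintype.card F) {H : Subgroup PF}
    (hHB : H ≤ (B : Subgroup SLF).map pmk) (hUH : (U : Subgroup SLF).map pmk ≤ H)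
    (hT : ¬ H ≤ (U : Subgroup SLF).map pmk) : ¬ IsBinary H := by
  classical
  let S : Subgroup Fˣ := H.comap (pmk.comp d)
  have hS : ∀ a, a ∈ S ↔ pmk (d a) ∈ H := fun a => Iff.rfl
  have key : ∀ N : SLF, pmk N ∈ H ↔ ∃ a ∈ S, N 1 0 = 0 ∧ N 0 0 = a := by
    intro N
    constructor
    · intro h
      obtain ⟨g, hg, he⟩ := hHB h
      have h10 : N 1 0 = 0 := by
        rcases pmk_eq_iff.1 he with e | e
        · rw [← e]; exact hg
        · rw [← neg_eq_iff_eq_neg] at e
          rw [← e]; simpa using hg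
      obtain ⟨t, a, rfl⟩ := eq_u_mul_d (show N ∈ (B : Subgroup SLF) from h10)
      refine ⟨a, (hS a).2 ?_, h10, by simp [Matrix.mul_apply, Fin.sum_univ_two]⟩
      have := mul_mem (inv_mem (hUH ⟨u t, u_mem_U t, rfl⟩)) h
      rwa [map_mul, inv_mul_cancel_left] at this
    · rintro ⟨a, ha, h10, h00⟩
      obtain ⟨t, b, rfl⟩ := eq_u_mul_d (show N ∈ (B : Subgroup SLF) from h10)
      have hba : b = a := Units.ext (by simpa [Matrix.mul_apply, Fin.sum_univ_two] using h00)
      rw [map_mul, hba]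
      exact mul_mem (hUH ⟨u t, u_mem_U t, rfl⟩) ha
  have hone : (1 : Fˣ) ∈ S := one_mem S
  have hneg : (-1 : Fˣ) ∈ S := (hS _).2 (by rw [d_neg_one, pmk_neg, map_one]; exact one_mem H)
  obtain ⟨c, hc, hcU⟩ := SetLike.not_le_iff_exists.1 hT
  obtain ⟨t, a, rfl⟩ := mem_borel (hHB hc)
  rw [pmk_mem_U_iff] at hcU
  have ha : a ∈ S := (hS a).2 (by
    have := mul_mem (inv_mem (hUH ⟨u t, u_mem_U t, rfl⟩)) hc
    rwa [map_mul, inv_mul_cancel_left] at this)
  by_cases h2 : (2 : F) = 0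
  · -- four points
    have : CharP F 2 := CharTwo.of_one_ne_zero_of_two_eq_zero one_ne_zero h2
    have ha1 : (a : F) ≠ 1 := fun e => hcU (by rw [e, one_mul])
    have ha1' : 1 + (a : F) ≠ 0 := fun e => ha1 (by rw [eq_neg_of_add_eq_zero_right e, CharTwo.neg_eq])
    have ha0 : (a : F) ≠ 0 := a.ne_zero
    set y : F := (1 + (a : F))⁻¹ with hy
    have hy0 : y ≠ 0 := inv_ne_zero ha1'
    refine not_isBinary_of_reps (n := 4) (by norm_num) ![1, pmk w, pmk (l 1), pmk (l y)]
      ![1, pmk w, pmk (l 1), pmk (l ((a : F) * y))] ?_ ?_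
    · have d14 : ∃ g : PF, g ∈ H ∧ (pmk (l ((a : F) * y)))⁻¹ * g * pmk (l y) ∈ H := by
        refine ⟨pmk (u (((a : F)⁻¹ - 1) / y)), hUH ⟨_, u_mem_U _, rfl⟩, ?_⟩
        rw [← map_inv, ← map_mul, ← map_mul, ← l_neg, key]
        refine ⟨a⁻¹, inv_mem ha, ?_, ?_⟩ <;>
          simp [Matrix.mul_apply, Fin.sum_univ_two] <;> field_simp <;> ring
      have d24 : ∃ g : PF, (pmk w)⁻¹ * g * pmk w ∈ H ∧
          (pmk (l ((a : F) * y)))⁻¹ * g * pmk (l y) ∈ H := by
        refine ⟨pmk (l (((a : F) - 1) * y)), ?_, ?_⟩ <;>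
          rw [← map_inv, ← map_mul, ← map_mul, key] <;> refine ⟨1, hone, ?_, ?_⟩ <;>
          simp [Matrix.mul_apply, Fin.sum_univ_two, Matrix.SpecialLinearGroup.coe_inv,
            Matrix.adjugate_fin_two, w] <;> ring
      have d34 : ∃ g : PF, (pmk (l 1))⁻¹ * g * pmk (l 1) ∈ H ∧
          (pmk (l ((a : F) * y)))⁻¹ * g * pmk (l y) ∈ H := by
        refine ⟨pmk (u ((1 + (a : F)) ^ 2 / (a : F) ^ 2) * d a⁻¹), ?_, ?_⟩
        · rw [← map_inv, ← map_mul, ← map_mul, ← l_neg, key]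
          refine ⟨a, ha, ?_, ?_⟩ <;> simp [Matrix.mul_apply, Fin.sum_univ_two] <;> field_simp
          · linear_combination -(1 + (a : F)) * h2
          · linear_combination (1 + (a : F)) * h2
        · rw [← map_inv, ← map_mul, ← map_mul, ← l_neg, key]
          refine ⟨1, hone, ?_, ?_⟩ <;> simp [Matrix.mul_apply, Fin.sum_univ_two, hy] <;> field_simp
          · linear_combination -h2
          · linear_combination h2
      intro i j hij
      fin_cases i <;> fin_cases j <;> simp only [ne_eq, not_true_eq_false] at hij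
      · exact ⟨1, by simp, by simp⟩
      · exact ⟨1, by simp, by simp⟩
      · obtain ⟨g, h1, h2⟩ := d14; exact ⟨g, by simpa using h1, by simpa using h2⟩
      · exact ⟨1, by simp, by simp⟩
      · exact ⟨1, by simp, by simp⟩
      · obtain ⟨g, h1, h2⟩ := d24; exact ⟨g, by simpa using h1, by simpa using h2⟩
      · exact ⟨1, by simp, by simp⟩
      · exact ⟨1, by simp, by simp⟩
      · obtain ⟨g, h1, h2⟩ := d34; exact ⟨g, by simpa using h1, by simpa using h2⟩
      · obtain ⟨g, h1, h2⟩ := d14; exact ⟨g, by simpa using h2, by simpa using h1⟩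
      · obtain ⟨g, h1, h2⟩ := d24; exact ⟨g, by simpa using h2, by simpa using h1⟩
      · obtain ⟨g, h1, h2⟩ := d34; exact ⟨g, by simpa using h2, by simpa using h1⟩
    · intro g
      obtain ⟨M, rfl⟩ := pmk_surjective g
      by_contra hcon
      simp only [not_exists, not_not] at hcon
      have h0 := hcon 0
      have h1 := hcon 1
      have h3 := hcon 2
      have h4 := hcon 3
      simp at h0 h1 h3 h4
      simp only [← map_inv, ← map_mul, key] at h0 h1 h3 h4
      obtain ⟨s, -, hM10, hM00⟩ := h0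
      obtain ⟨-, -, hM01, -⟩ := h1
      obtain ⟨-, -, h310, -⟩ := h3
      obtain ⟨-, -, h410, -⟩ := h4
      simp [Matrix.mul_apply, Fin.sum_univ_two, Matrix.SpecialLinearGroup.coe_inv,
        Matrix.adjugate_fin_two, Matrix.vecMul, dotProduct, w] at hM01 h310 h410
      have hdet := det_eq M
      rw [hM10, hM01] at hdet h310
      rw [hM10, hM01] at h410
      have h11 : M 1 1 = M 0 0 := by linear_combination h310
      have hs : M 0 0 = 1 := by
        have : (M 0 0 + 1) * (M 0 0 + 1) = 0 := by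
          rw [h11] at hdet
          linear_combination hdet + (M 0 0 + 1) * h2
        have := eq_neg_of_add_eq_zero_left (mul_self_eq_zero.1 this)
        rwa [CharTwo.neg_eq] at this
      rw [h11, hs] at h410
      refine ha1 (mul_right_cancel₀ hy0 ?_)
      linear_combination -h410
  · -- three points
    obtain ⟨β, hβ, hβsq⟩ : ∃ β ∈ S, ∀ s ∈ S, β ≠ s * s := by
      by_contra hcon
      push Not at hcon
      have hsurj : Function.Surjective (fun s : S => s * s) := fun β => by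
        obtain ⟨s, hs, he⟩ := hcon β β.2
        exact ⟨⟨s, hs⟩, Subtype.ext he.symm⟩
      have := Finite.injective_iff_surjective.2 hsurj
        (a₁ := ⟨1, hone⟩) (a₂ := ⟨-1, hneg⟩) (Subtype.ext (by simp))
      have h11 : (1 : F) = -1 := by simpa using congrArg (fun z : S => ((z : Fˣ) : F)) this
      exact h2 (by linear_combination h11)
    have hβ0 : (β : F) ≠ 0 := β.ne_zero
    refine not_isBinary_of_reps (n := 3) (by norm_num) ![1, pmk w, pmk (l 1)]
      ![1, pmk w, pmk (l (β : F))] ?_ ?_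
    · have d13 : ∃ g : PF, g ∈ H ∧ (pmk (l (β : F)))⁻¹ * g * pmk (l 1) ∈ H := by
        refine ⟨pmk (u ((β : F)⁻¹ - 1)), hUH ⟨_, u_mem_U _, rfl⟩, ?_⟩
        rw [← map_inv, ← map_mul, ← map_mul, ← l_neg, key]
        refine ⟨β⁻¹, inv_mem hβ, ?_, ?_⟩ <;>
          simp [Matrix.mul_apply, Fin.sum_univ_two] <;> field_simp <;> ring
      have d23 : ∃ g : PF, (pmk w)⁻¹ * g * pmk w ∈ H ∧
          (pmk (l (β : F)))⁻¹ * g * pmk (l 1) ∈ H := by
        refine ⟨pmk (l ((β : F) - 1)), ?_, ?_⟩ <;>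
          rw [← map_inv, ← map_mul, ← map_mul, key] <;> refine ⟨1, hone, ?_, ?_⟩ <;>
          simp [Matrix.mul_apply, Fin.sum_univ_two, Matrix.SpecialLinearGroup.coe_inv,
            Matrix.adjugate_fin_two, w] <;> ring
      intro i j hij
      fin_cases i <;> fin_cases j <;> simp only [ne_eq, not_true_eq_false] at hij
      · exact ⟨1, by simp, by simp⟩
      · obtain ⟨g, h1, h2⟩ := d13; exact ⟨g, by simpa using h1, by simpa using h2⟩
      · exact ⟨1, by simp, by simp⟩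
      · obtain ⟨g, h1, h2⟩ := d23; exact ⟨g, by simpa using h1, by simpa using h2⟩
      · obtain ⟨g, h1, h2⟩ := d13; exact ⟨g, by simpa using h2, by simpa using h1⟩
      · obtain ⟨g, h1, h2⟩ := d23; exact ⟨g, by simpa using h2, by simpa using h1⟩
    · intro g
      obtain ⟨M, rfl⟩ := pmk_surjective g
      by_contra hcon
      simp only [not_exists, not_not] at hcon
      have h0 := hcon 0
      have h1 := hcon 1
      have h3 := hcon 2
      simp at h0 h1 h3
      simp only [← map_inv, ← map_mul, key] at h0 h1 h3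
      obtain ⟨s, hsS, hM10, hM00⟩ := h0
      obtain ⟨-, -, hM01, -⟩ := h1
      obtain ⟨-, -, h310, -⟩ := h3
      simp [Matrix.mul_apply, Fin.sum_univ_two, Matrix.SpecialLinearGroup.coe_inv,
        Matrix.adjugate_fin_two, Matrix.vecMul, dotProduct, w] at hM01 h310
      have hdet := det_eq M
      rw [hM10, hM01, hM00] at hdet
      rw [hM10, hM01, hM00] at h310
      have h11 : (β : F) * (s * s) = 1 := by linear_combination hdet - (s : F) * h310
      refine hβsq _ (inv_mem hsS) (Units.ext ?_)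
      have hs0 : (s : F) ≠ 0 := s.ne_zero
      simp
      field_simp
      linear_combination h11

/-- A non-trivial subgroup of the Borel subgroup with binary action is the whole unipotent group. -/
theorem borel_cases (h4 : 4 ≤ Fintype.card F) (h5 : Fintype.card F ≠ 5) {H : Subgroup PF}
    (hHB : H ≤ (B : Subgroup SLF).map pmk) (hne : H ≠ ⊥) (hb : IsBinary H) :
    (2 : F) = 0 ∧ H = (U : Subgroup SLF).map pmk := by
  classical
  set U' := (U : Subgroup SLF).map pmk
  by_cases hHU : H ≤ U'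
  · by_cases h2 : (2 : F) = 0
    · refine ⟨h2, ?_⟩
      by_contra hlt
      have : CharP F 2 := CharTwo.of_one_ne_zero_of_two_eq_zero one_ne_zero h2
      exact triple_unipotent_even h4 hHU hne hlt hb
    · exact absurd hb (triple_unipotent_odd h2 hHU hne)
  exfalso
  by_cases hUH : U' ≤ H
  · exact not_isBinary_borel_full h4 hHB hUH hHU hb
  by_cases h3 : ∃ c₁ ∈ H, ∃ c₂ ∈ H, c₁ ∉ U' ∧ c₂ ∉ U' ∧ c₁ * c₂ ∉ U'
  · obtain ⟨c₁, h₁, c₂, h₂, h₁U, h₂U, h₁₂⟩ := h3
    exact not_isBinary_of_frobenius (fun _ hu _ hv => commute_U hu hv)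
      (fun h hh _ hu => normalizes_U (hHB hh) hu)
      (fun h hh hhU _ hu hc => fixed_point_free (hHB hh) hhU hu hc) hUH h₁ h₁U h₂ h₂U h₁₂ hb
  push Not at h3
  have hout : ∀ x ∈ H, x ∉ U' →
      (2 : F) ≠ 0 ∧ x * x = 1 ∧ ∀ y ∈ U', x * y * x⁻¹ = y⁻¹ := fun x hx hxU =>
    mul_self_involution (hHB hx) hxU (h3 x hx x hx hxU hxU)
  obtain ⟨a, ha, haU⟩ := SetLike.not_le_iff_exists.1 hHU
  obtain ⟨h2, ha2, hainv⟩ := hout a ha haU
  have h7 : 7 ≤ Fintype.card F := by
    have := SL2.two_ne_zero_iff_odd.1 h2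
    rw [Nat.odd_iff] at this
    omega
  have ha1 : a ≠ 1 := fun e => haU (e ▸ one_mem _)
  have haa : a⁻¹ = a := inv_eq_of_mul_eq_one_right ha2
  have hinU : ∀ x ∈ H, x * x ≠ 1 → x ∈ U' := fun x hx hx2 => by
    by_contra hxU; exact hx2 (hout x hx hxU).2.1
  have hnoinv : ∀ x ∈ U', x * x = 1 → x = 1 := by
    rintro _ ⟨g, hg, rfl⟩ h
    obtain ⟨s, rfl⟩ := mem_U.1 hg
    rw [← map_mul, ← u_add] at h
    have : s + s = 0 := pmk_u_inj (h.trans (by rw [u_zero, map_one]))
    rw [← two_mul] at this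
    rw [(mul_eq_zero.1 this).resolve_left h2, u_zero, map_one]
  obtain ⟨b, hb2, hb1, hba, hab, havoid⟩ : ∃ b : PF, b * b = 1 ∧ b ≠ 1 ∧ b ≠ a ∧ Commute a b ∧
      ∀ x ∈ H, x * x ≠ 1 → ¬ Commute b x ∧ ¬ Commute (a * b) x := by
    by_cases hx : ∃ x ∈ H, x * x ≠ 1
    · obtain ⟨x₀, hx₀, hx₀2⟩ := hx
      obtain ⟨b, hb2, hb1, hba, hab, hbx, habx⟩ := exists_involution_inv h4 h5 ha2 ha1 hx₀2
      refine ⟨b, hb2, hb1, hba, hab, fun x hx hx2 => ⟨fun h => hbx ?_, fun h => habx ?_⟩⟩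
      all_goals
        exact psl_ca x _ x₀ hx2 h.symm (commute_U (hinU x hx hx2) (hinU x₀ hx₀ hx₀2))
    · obtain ⟨b, hb2, hb1, hba, hab, -, -⟩ := exists_involution_avoid h2 h7 ha2 ha1 1 1
      exact ⟨b, hb2, hb1, hba, hab, fun x hx' hx2 => absurd ⟨x, hx', hx2⟩ hx⟩
  have hab2 : a * b * (a * b) = 1 := by
    rw [mul_assoc, ← mul_assoc b a b, ← hab.eq, mul_assoc a b b, hb2, mul_one, ha2]
  have hab1 : a * b ≠ 1 := fun e => hba <| by
    calc b = a * (a * b) := by rw [← mul_assoc, ha2, one_mul]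
      _ = a := by rw [e, mul_one]
  obtain ⟨g, hg⟩ := exists_conj_involution ha2 ha1 hb2 hb1
  obtain ⟨k, hk⟩ := exists_conj_involution ha2 ha1 hab2 hab1
  refine not_isBinary_of_inv ha ha2 ha1 hb2 hb1 hba hab hg hk ?_ ?_ havoid hb
  · intro x hx hx2
    have := hainv x (hinU x hx hx2)
    rwa [haa] at this
  · intro x hx y hy hx2 hy2 hc
    by_cases hxU : x ∈ U'
    · exact Or.inl (hnoinv x hxU hx2)
    by_cases hyU : y ∈ U'
    · exact Or.inr (Or.inl (hnoinv y hyU hy2))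
    refine Or.inr (Or.inr ?_)
    have h1 := hnoinv _ (h3 x hx y hy hxU hyU) (by
      rw [mul_assoc, ← mul_assoc y x y, ← hc.eq, mul_assoc x y y, hy2, mul_one, hx2])
    calc x = x * y * y := by rw [mul_assoc, hy2, mul_one]
      _ = y := by rw [h1, one_mul]

end CfsgLib.BinaryPSL
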