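import Cfsg.Agent.BinaryPSL.Basic

/-!
Abstract criteria for a coset action not to be binary.
-/

set_option autoImplicit false

namespace CfsgLib.BinaryPSL

variable {G : Type*} [Group G]

theorem commute_of_sq_one {x y : G} (hx : x * x = 1) (hy : y * y = 1) (hxy : x * y * (x * y) = 1) :
    Commute x y :=
  calc x * y = x * (x * y * (x * y)) * y := by rw [hxy, mul_one]
    _ = x * x * (y * x) * (y * y) := by simp [mul_assoc]
    _ = y * x := by rw [hx, hy, one_mul, mul_one]

/-- Involution criterion: no four-groups, all other elements inverted by the involution `a`. -/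
theorem not_isBinary_of_inv {H : Subgroup G} {a b g k : G} (ha : a ∈ H) (ha2 : a * a = 1) (ha1 : a ≠ 1)
    (hb2 : b * b = 1) (hb1 : b ≠ 1) (hba : b ≠ a) (hab : Commute a b)
    (hg : g * a * g⁻¹ = b) (hk : k * a * k⁻¹ = a * b)
    (hinv : ∀ x ∈ H, x * x ≠ 1 → a * x * a = x⁻¹)
    (hK : ∀ x ∈ H, ∀ y ∈ H, x * x = 1 → y * y = 1 → Commute x y → x = 1 ∨ y = 1 ∨ x = y)
    (havoid : ∀ x ∈ H, x * x ≠ 1 → ¬ Commute b x ∧ ¬ Commute (a * b) x) : ¬ IsBinary H := by
  have hprod : b * (a * b) = a := by rw [hab.eq, ← mul_assoc, hb2, one_mul]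
  have hc2 : a * b * (a * b) = 1 := by rw [mul_assoc, hprod, ha2]
  have hinvert : ∀ (d e : G), d * a * d⁻¹ = e → ∀ x, d⁻¹ * x * d ∈ H → x * x ≠ 1 → e * x * e = x⁻¹ := by
    intro d e hd x hx hx2
    have := hinv _ hx fun h => hx2 (by
      have := congrArg (fun t => d * t * d⁻¹) h
      simpa [mul_assoc] using this)
    subst hd
    have h2 := congrArg (fun t => d * t * d⁻¹) this
    simpa [mul_assoc] using h2
  refine not_isBinary_of_triple ⟨g, trivial, k, trivial, b, a * b, ?_, ?_, ?_, ?_⟩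
  · rw [← hg]; simpa [mul_assoc] using ha
  · rw [← hk]; simpa [mul_assoc] using ha
  · rwa [hprod]
  · rw [hprod]
    intro x hx y hy hxB hyC he
    have hx2 : x * x = 1 := by
      by_contra h
      refine (havoid x hx h).2 ?_
      have h1 := hinvert g b hg x hxB h
      have h2 := hinv x⁻¹ (inv_mem hx) (fun e => h (by simpa [← mul_inv_rev] using e))
      rw [inv_inv] at h2
      calc a * b * x = a * (b * x * b) * (a * a) * b := by simp [mul_assoc, ha2, hb2]
        _ = a * x⁻¹ * a * (a * b) := by rw [h1]; simp [mul_assoc]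
        _ = x * (a * b) := by rw [h2]
    have hy2 : y * y = 1 := by
      by_contra h
      refine (havoid y hy h).1 ?_
      have h1 := hinvert k _ hk y⁻¹ (by simpa [mul_assoc] using inv_mem hyC)
        (fun e => h (by simpa [← mul_inv_rev] using e))
      have h2 := hinv y hy h
      rw [inv_inv] at h1
      calc b * y = b * (a * b * y⁻¹ * (a * b)) := by rw [h1]
        _ = b * (a * b) * y⁻¹ * (a * b) := by simp [mul_assoc]
        _ = a * y⁻¹ * a * b := by rw [hprod]; simp [mul_assoc]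
        _ = y * b := by
          rw [← h2]; simp only [← mul_assoc, ha2, one_mul]
          rw [mul_assoc y a a, ha2, mul_one]
    have hcomm : Commute x y := commute_of_sq_one hx2 hy2 (by rw [he, ha2])
    have hsq : ∀ d w : G, w * w = 1 → d⁻¹ * w * d * (d⁻¹ * w * d) = 1 := fun d w hw => by
      calc d⁻¹ * w * d * (d⁻¹ * w * d) = d⁻¹ * (w * w) * d := by simp [mul_assoc]
        _ = 1 := by rw [hw]; simp
    rcases hK x hx y hy hx2 hy2 hcomm with h | h | h
    · rw [h, one_mul] at he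
      subst he
      have hka : k⁻¹ * (y * b) * k = y := by rw [← hk]; simp [mul_assoc]
      rcases hK _ hyC _ hy (hsq k y hy2) hy2 (by
          have hc : Commute y (y * b) := (Commute.refl y).mul_right hab
          have := (hc.map (MulAut.conj k⁻¹).toMonoidHom)
          simpa [hka] using this) with e | e | e
      · exact ha1 (by simpa [mul_assoc, inv_mul_eq_one] using congrArg (fun t => k * t * k⁻¹) e)
      · exact ha1 e
      · have := e.trans hka.symm
        simp at this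
        exact hb1 this
    · rw [h, mul_one] at he
      subst he
      have hga : g⁻¹ * b * g = x := by rw [← hg]; simp [mul_assoc]
      rcases hK _ hxB _ hx (hsq g x hx2) hx2 (by
          have := (hab.map (MulAut.conj g⁻¹).toMonoidHom)
          simpa [hga] using this) with e | e | e
      · exact ha1 (by simpa [mul_assoc, inv_mul_eq_one] using congrArg (fun t => g * t * g⁻¹) e)
      · exact ha1 e
      · have := e.trans hga.symm
        simp at this
        exact hba this.symm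
    · rw [h, hy2] at he
      exact ha1 he.symm

/-- The hypotheses on `G` used by the centraliser criterion. -/
structure CentralizerFacts (G : Type*) [Group G] : Prop where
  ca : ∀ x y w : G, x * x ≠ 1 → Commute x y → Commute x w → Commute y w
  klein : ∀ s t y : G, s * s = 1 → t * t = 1 → s ≠ 1 → t ≠ 1 → s ≠ t → Commute s t →
    Commute y s → Commute y t → y = 1 ∨ y = s ∨ y = t ∨ y = s * t

theorem CentralizerFacts.eq_of_common (hF : CentralizerFacts G) {b z s y : G}
    (hbz : ¬ Commute b z) (hs : s * s = 1) (hs1 : s ≠ 1) (hsb : Commute s b) (hsz : Commute s z)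
    (hy : y * y = 1) (hy1 : y ≠ 1) (hyb : Commute y b) (hyz : Commute y z) : y = s := by
  by_contra hne
  have hys : y * s * (y * s) = 1 := by
    by_contra h
    exact hbz (hF.ca _ _ _ h (hyb.mul_left hsb) (hyz.mul_left hsz))
  have hc := commute_of_sq_one hy hs hys
  rcases hF.klein y s z hy hs hy1 hs1 hne hc hyz.symm hsz.symm with h | h | h | h
  · exact hbz (h ▸ Commute.one_right b)
  · exact hbz (h ▸ hyb.symm)
  · exact hbz (h ▸ hsb.symm)
  · exact hbz (h ▸ (hyb.mul_left hsb).symm)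

/-- Criterion for subgroups in the centraliser of an involution. -/
theorem not_isBinary_of_cent (hF : CentralizerFacts G) {H : Subgroup G} {z a b g k : G}
    (hz2 : z * z = 1) (hz1 : z ≠ 1)
    (ha : a ∈ H) (ha2 : a * a = 1) (ha1 : a ≠ 1) (hza : z ≠ a) (haz : Commute a z)
    (hb2 : b * b = 1) (hb1 : b ≠ 1) (hab : Commute a b) (hbz : ¬ Commute b z)
    (hg : g * a * g⁻¹ = b) (hk : k * a * k⁻¹ = a * b)
    (hgz : g * z * g⁻¹ ≠ a ∧ g * z * g⁻¹ ≠ a * b) (hkz : k * z * k⁻¹ ≠ a ∧ k * z * k⁻¹ ≠ b)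
    (hB : ∀ x ∈ H, g⁻¹ * x * g ∈ H → Commute x z ∧ Commute x (g * z * g⁻¹))
    (hC : ∀ x ∈ H, k⁻¹ * x * k ∈ H → Commute x z ∧ Commute x (k * z * k⁻¹)) : ¬ IsBinary H := by
  have hprod : b * (a * b) = a := by rw [hab.eq, ← mul_assoc, hb2, one_mul]
  have hc2 : a * b * (a * b) = 1 := by rw [mul_assoc, hprod, ha2]
  have hne : b ≠ a := fun h => hbz (h ▸ haz)
  have hc1 : a * b ≠ 1 := fun h => hne <| by
    calc b = a * (a * b) := by rw [← mul_assoc, ha2, one_mul]
      _ = a := by rw [h, mul_one]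
  have hcz : ¬ Commute (a * b) z := fun h => hbz (by
    have := haz.mul_left h
    rwa [← mul_assoc, ha2, one_mul] at this)
  -- the conjugate of `z` does not commute with `z`
  have conj_facts : ∀ (d e : G), d * a * d⁻¹ = e → ¬ Commute e z → Commute a e → d * z * d⁻¹ ≠ a →
      ¬ Commute z (d * z * d⁻¹) := by
    intro d e hd hez hae hne' hcm
    refine hne' (hF.eq_of_common (b := e) (z := z) hez ha2 ha1 hae haz ?_ ?_ ?_ hcm.symm)
    · calc d * z * d⁻¹ * (d * z * d⁻¹) = d * (z * z) * d⁻¹ := by simp [mul_assoc]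
        _ = 1 := by rw [hz2]; simp
    · exact fun h => hz1 (by simpa [mul_assoc] using congrArg (fun t => d⁻¹ * t * d) h)
    · subst hd
      simpa using haz.symm.map (MulAut.conj d).toMonoidHom
  have hgn := conj_facts g b hg hbz hab hgz.1
  have hkn := conj_facts k _ hk hcz ((Commute.refl a).mul_right hab) hkz.1
  refine not_isBinary_of_triple ⟨g, trivial, k, trivial, b, a * b, ?_, ?_, ?_, ?_⟩
  · rw [← hg]; simpa [mul_assoc] using ha
  · rw [← hk]; simpa [mul_assoc] using ha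
  · rwa [hprod]
  · rw [hprod]
    intro x hx y hy hxB hyC he
    obtain ⟨hxz, hxzB⟩ := hB x hx hxB
    obtain ⟨hyz, hyzC⟩ := hC y hy hyC
    have hx2 : x * x = 1 := by
      by_contra h
      exact hgn (hF.ca x z _ h hxz hxzB)
    have hy2 : y * y = 1 := by
      by_contra h
      exact hkn (hF.ca y z _ h hyz hyzC)
    have hconj : ∀ d : G, Commute (d * z * d⁻¹) (d * a * d⁻¹) := fun d => by
      simpa using haz.symm.map (MulAut.conj d).toMonoidHom
    by_cases hx1 : x = 1
    · rw [hx1, one_mul] at he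
      rw [he] at hyzC
      rcases hF.klein a (a * b) (k * z * k⁻¹) ha2 hc2 ha1 hc1 (fun h => hb1 (by simpa using h.symm))
          ((Commute.refl a).mul_right hab) hyzC.symm (hk ▸ hconj k) with h | h | h | h
      · exact hz1 (by simpa [mul_assoc] using congrArg (fun t => k⁻¹ * t * k) h)
      · exact hkz.1 h
      · rw [← hk] at h; exact hza (by simpa using h)
      · rw [← mul_assoc, ha2, one_mul] at h; exact hkz.2 h
    by_cases hy1 : y = 1
    · rw [hy1, mul_one] at he
      rw [he] at hxzB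
      rcases hF.klein a b (g * z * g⁻¹) ha2 hb2 ha1 hb1 (Ne.symm hne) hab hxzB.symm
          (hg ▸ hconj g) with h | h | h | h
      · exact hz1 (by simpa [mul_assoc] using congrArg (fun t => g⁻¹ * t * g) h)
      · exact hgz.1 h
      · rw [← hg] at h; exact hza (by simpa using h)
      · exact hgz.2 h
    by_cases hxy : x = y
    · rw [hxy, hy2] at he; exact ha1 he.symm
    have hcomm : Commute x y := commute_of_sq_one hx2 hy2 (by rw [he, ha2])
    rcases hF.klein x y z hx2 hy2 hx1 hy1 hxy hcomm hxz.symm hyz.symm with h | h | h | h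
    · exact hz1 h
    · subst h; exact hgn hxzB
    · subst h; exact hkn hyzC
    · exact hza (h.trans he)

/-- Frobenius criterion: an abelian normalised subgroup with fixed-point-free action. -/
theorem not_isBinary_of_frobenius [Finite G] {H U : Subgroup G}
    (hU : ∀ u ∈ U, ∀ v ∈ U, Commute u v) (hn : ∀ h ∈ H, ∀ u ∈ U, h * u * h⁻¹ ∈ U)
    (hfix : ∀ h ∈ H, h ∉ U → ∀ u ∈ U, Commute h u → u = 1) (hnle : ¬ U ≤ H)
    {c₁ c₂ : G} (h₁ : c₁ ∈ H) (h₁U : c₁ ∉ U) (h₂ : c₂ ∈ H) (h₂U : c₂ ∉ U) (h₁₂ : c₁ * c₂ ∉ U) :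
    ¬ IsBinary H := by
  have inj : ∀ c ∈ H, c ∉ U → ∀ v ∈ U, ∀ w ∈ U,
      v * (c * v⁻¹ * c⁻¹) = w * (c * w⁻¹ * c⁻¹) → v = w := by
    intro c hc hcU v hv w hw he
    refine inv_mul_eq_one.mp ?_ |>.symm
    refine hfix c hc hcU _ (mul_mem (inv_mem hw) hv) ?_
    have h1 : w⁻¹ * v = c * (w⁻¹ * v) * c⁻¹ :=
      calc w⁻¹ * v = w⁻¹ * (v * (c * v⁻¹ * c⁻¹)) * (c * v * c⁻¹) := by simp [mul_assoc]
        _ = c * w⁻¹ * c⁻¹ * (c * v * c⁻¹) := by rw [he]; simp [mul_assoc]
        _ = c * (w⁻¹ * v) * c⁻¹ := by simp [mul_assoc]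
    exact (eq_mul_inv_iff_mul_eq.mp h1).symm
  have surj : ∀ c ∈ H, c ∉ U → ∀ W : Subgroup G, W ≤ U → (∀ v ∈ W, c * v * c⁻¹ ∈ W) →
      ∀ t ∈ W, ∃ v ∈ W, v * (c * v⁻¹ * c⁻¹) = t := by
    intro c hc hcU W hW hcW t ht
    have hinj : Function.Injective
        (fun v : W => (⟨v * (c * (v : G)⁻¹ * c⁻¹), mul_mem v.2 (hcW _ (inv_mem v.2))⟩ : W)) :=
      fun v w he => Subtype.ext (inj c hc hcU _ (hW v.2) _ (hW w.2) (congrArg Subtype.val he))
    obtain ⟨v, hv⟩ := (Finite.injective_iff_surjective.mp hinj) ⟨t, ht⟩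
    exact ⟨v, v.2, congrArg Subtype.val hv⟩
  have mem_of : ∀ c ∈ H, c ∉ U → ∀ v ∈ U, v * (c * v⁻¹ * c⁻¹) ∈ H → v ∈ H := by
    intro c hc hcU v hv hmem
    obtain ⟨w, hw, he⟩ := surj c hc hcU (U ⊓ H) inf_le_left
      (fun t ht => Subgroup.mem_inf.mpr ⟨hn c hc t ht.1, mul_mem (mul_mem hc ht.2) (inv_mem hc)⟩) _
      (Subgroup.mem_inf.mpr ⟨mul_mem hv (hn c hc _ (inv_mem hv)), hmem⟩)
    exact inj c hc hcU w hw.1 v hv he ▸ hw.2
  obtain ⟨u, hu, huH⟩ := SetLike.not_le_iff_exists.mp hnle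
  have hw : u * c₁⁻¹ * u⁻¹ * c₁ ∈ U := by
    have : u * c₁⁻¹ * u⁻¹ * c₁ = u * (c₁⁻¹ * u⁻¹ * c₁⁻¹⁻¹) := by simp [mul_assoc]
    rw [this]
    exact mul_mem hu (hn _ (inv_mem h₁) _ (inv_mem hu))
  obtain ⟨v, hv, hve⟩ := surj c₂ h₂ h₂U U le_rfl (hn c₂ h₂) _ hw
  have h₁U' : c₁⁻¹ ∉ U := fun h => h₁U (inv_inv c₁ ▸ inv_mem h)
  have hvH : v ∉ H := fun h => huH (mem_of _ (inv_mem h₁) h₁U' u hu (by
    rw [inv_inv]
    have := mul_mem h (mul_mem (mul_mem h₂ (inv_mem h)) (inv_mem h₂))
    rw [hve] at this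
    simpa [mul_assoc] using this))
  have hinU : ∀ w ∈ U, w ∉ H → ∀ x ∈ H, w⁻¹ * x * w ∈ H → x ∈ U := by
    intro w hw hwH x hx hxw
    by_contra hxU
    refine hwH (inv_inv w ▸ inv_mem (mem_of x hx hxU w⁻¹ (inv_mem hw) ?_))
    rw [inv_inv]
    simpa [mul_assoc] using mul_mem hxw (inv_mem hx)
  have hprod : u * c₁ * u⁻¹ * (v * c₂ * v⁻¹) = c₁ * c₂ := by
    calc u * c₁ * u⁻¹ * (v * c₂ * v⁻¹) = u * c₁ * u⁻¹ * (v * (c₂ * v⁻¹ * c₂⁻¹)) * c₂ := by
          simp [mul_assoc]
      _ = c₁ * c₂ := by rw [hve]; simp [mul_assoc]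
  refine not_isBinary_of_triple ⟨u, trivial, v, trivial, u * c₁ * u⁻¹, v * c₂ * v⁻¹,
    by simpa [mul_assoc] using h₁, by simpa [mul_assoc] using h₂, by rw [hprod]; exact mul_mem h₁ h₂, ?_⟩
  rw [hprod]
  exact fun x hx y hy hxu hyv he =>
    h₁₂ (he ▸ mul_mem (hinU u hu huH x hx hxu) (hinU v hv hvH y hy hyv))

/-- A 2-transitive action with too many points is not binary. -/
theorem not_isBinary_of_two_transitive [Finite G] {H : Subgroup G}
    (h2 : ∀ x y : G, x ∉ H → y ∉ H → ∃ h ∈ H, y⁻¹ * h * x ∈ H) (hn : 2 ≤ H.index)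
    (hcard : Nat.card G < H.index.factorial) : ¬ IsBinary H := by
  intro hb
  classical
  haveI := Fintype.ofFinite (G ⧸ H)
  let e := Fintype.equivFin (G ⧸ H)
  have hsurj : Function.Surjective (MulAction.toPermHom G (G ⧸ H)) := by
    intro σ
    obtain ⟨g, hg⟩ := hb (Fintype.card (G ⧸ H)) (fun i => e.symm i) (fun i => σ (e.symm i))
      (by rwa [← Nat.card_eq_fintype_card, ← Subgroup.index_eq_card]) fun i j hij => by
        have hne : e.symm i ≠ e.symm j := e.symm.injective.ne hij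
        have hne' : σ (e.symm i) ≠ σ (e.symm j) := σ.injective.ne hne
        revert hne hne'
        generalize e.symm i = p, e.symm j = q, σ (e.symm i) = p', σ (e.symm j) = q'
        intro hne hne'
        obtain ⟨x, rfl⟩ := QuotientGroup.mk_surjective p
        obtain ⟨y, rfl⟩ := QuotientGroup.mk_surjective q
        obtain ⟨x', rfl⟩ := QuotientGroup.mk_surjective p'
        obtain ⟨y', rfl⟩ := QuotientGroup.mk_surjective q'
        rw [ne_eq, QuotientGroup.eq] at hne hne'
        obtain ⟨h, hh, hh'⟩ := h2 (x⁻¹ * y) (x'⁻¹ * y') hne hne'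
        exact ⟨x' * h * x⁻¹, mk_smul_eq_iff.mpr (by simpa [mul_assoc] using hh),
          mk_smul_eq_iff.mpr (by simpa [mul_assoc] using hh')⟩
    exact ⟨g, Equiv.ext fun p => by simpa using hg (e p)⟩
  have := Nat.card_le_card_of_surjective _ hsurj
  rw [Nat.card_perm, ← Subgroup.index_eq_card] at this
  omega

end CfsgLib.BinaryPSL
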