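import Cfsg.Agent.BinaryPSL.Criteria
import Cfsg.Agent.SL2.PSL
import Cfsg.Agent.SL2.Klein
import Cfsg.Agent.Dickson.Thirteen

/-!
Facts about centralisers in `PSL(2, F)`.
-/

set_option autoImplicit false

namespace CfsgLib.BinaryPSL

open CfsgLib.SL2

variable {F : Type*} [Field F]

local notation "SLF" => Matrix.SpecialLinearGroup (Fin 2) F
local notation "PF" => Matrix.ProjectiveSpecialLinearGroup (Fin 2) F

theorem commute_lift {g h : SLF} (hc : Commute (pmk g) (pmk h)) (hne : pmk g * pmk g ≠ 1) :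
    g * h = h * g := by
  have h1 : pmk (h * g * h⁻¹) = pmk g := by
    rw [map_mul, map_mul, map_inv, mul_inv_eq_iff_eq_mul]
    exact hc.symm
  rcases pmk_eq_iff.1 h1 with e | e
  · exact (mul_inv_eq_iff_eq_mul.1 e).symm
  · by_cases h2 : (2 : F) = 0
    · have : CharP F 2 := CharTwo.of_one_ne_zero_of_two_eq_zero one_ne_zero h2
      rw [← neg_one_mul, neg_one_eq_one, one_mul] at e
      exact (mul_inv_eq_iff_eq_mul.1 e).symm
    · have ht : tr g = 0 := by
        have := congrArg tr e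
        rw [tr_conj] at this
        have hneg : tr (-g) = - tr g := by simp [tr]; ring
        rw [hneg] at this
        exact (mul_eq_zero.1 (show (2 : F) * tr g = 0 by linear_combination this)).resolve_left h2
      exact absurd (by rw [← map_mul, mul_self_of_tr_eq_zero ht]; exact pmk_eq_one_iff.2 (Or.inr rfl)) hne

theorem not_mem_center {g : SLF} (h : pmk g ≠ 1) : g ∉ Subgroup.center SLF := fun hc =>
  h (pmk_eq_one_iff.2 (mem_center_iff'.1 hc))

theorem psl_ca (x y w : PF) (hx : x * x ≠ 1) (hy : Commute x y) (hw : Commute x w) : Commute y w := by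
  obtain ⟨X, rfl⟩ := pmk_surjective x
  obtain ⟨Y, rfl⟩ := pmk_surjective y
  obtain ⟨W, rfl⟩ := pmk_surjective w
  have hX : pmk X ≠ 1 := fun h => hx (by rw [h, one_mul])
  have := centralizer_commute (not_mem_center hX)
    (Subgroup.mem_centralizer_singleton_iff.2 (commute_lift hy hx).symm)
    (Subgroup.mem_centralizer_singleton_iff.2 (commute_lift hw hx).symm)
  exact (show Commute Y W from this).map pmk

theorem orderOf_two_of {x : PF} (h : x * x = 1) (h1 : x ≠ 1) : orderOf x = 2 :=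
  orderOf_eq_prime (by rw [pow_two, h]) h1

theorem psl_klein (h2 : (2 : F) ≠ 0) (s t y : PF) (hs : s * s = 1) (ht : t * t = 1) (hs1 : s ≠ 1)
    (ht1 : t ≠ 1) (hst : s ≠ t) (hc : Commute s t) (hys : Commute y s) (hyt : Commute y t) :
    y = 1 ∨ y = s ∨ y = t ∨ y = s * t := by
  obtain ⟨S, rfl⟩ := pmk_surjective s
  obtain ⟨T, rfl⟩ := pmk_surjective t
  obtain ⟨Y, rfl⟩ := pmk_surjective y
  have hS := (orderOf_pmk_eq_two_iff h2).1 (orderOf_two_of hs hs1)
  have hT := (orderOf_pmk_eq_two_iff h2).1 (orderOf_two_of ht ht1)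
  obtain ⟨hTS, htST⟩ := anticommute_of_commute_pmk h2 hS hT hc.symm (Ne.symm hst)
  have hneg : ∀ A : SLF, A ≠ -A := fun A e => by
    refine neg_one_ne_one h2 ?_
    have := congrArg (fun B => A⁻¹ * B) e
    simpa using this.symm
  by_cases hy2 : pmk Y * pmk Y = 1
  · by_cases hy1 : pmk Y = 1
    · exact Or.inl hy1
    by_cases hys' : pmk Y = pmk S
    · exact Or.inr (Or.inl hys')
    by_cases hyt' : pmk Y = pmk T
    · exact Or.inr (Or.inr (Or.inl hyt'))
    have hY := (orderOf_pmk_eq_two_iff h2).1 (orderOf_two_of hy2 hy1)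
    obtain ⟨hYS, -⟩ := anticommute_of_commute_pmk h2 hS hY hys hys'
    obtain ⟨hYT, -⟩ := anticommute_of_commute_pmk h2 hT hY hyt hyt'
    have hcen : Y * (S * T) = S * T * Y := by
      rw [← mul_assoc, hYS, neg_mul, mul_assoc, hYT, mul_neg, neg_neg, mul_assoc]
    refine Or.inr (Or.inr (Or.inr ?_))
    rw [← map_mul, pmk_eq_iff]
    rcases eq_or_eq_inv_of_tr_eq (tr_zero_sq_ne_four h2 htST)
      (Subgroup.mem_centralizer_singleton_iff.2 hcen) (hY.trans htST.symm) with e | e
    · exact Or.inl e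
    · exact Or.inr (by rw [e, inv_of_tr_zero htST])
  · exfalso
    have hY1 : pmk Y ≠ 1 := fun h => hy2 (by rw [h, one_mul])
    have := centralizer_commute (not_mem_center hY1)
      (Subgroup.mem_centralizer_singleton_iff.2 (commute_lift hys hy2).symm)
      (Subgroup.mem_centralizer_singleton_iff.2 (commute_lift hyt hy2).symm)
    exact hneg (S * T) (by rw [← hTS]; exact this)

theorem centralizerFacts (h2 : (2 : F) ≠ 0) : CentralizerFacts PF := ⟨psl_ca, psl_klein h2⟩

variable [Fintype F]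

theorem exists_conj_involution {x y : PF} (hx : x * x = 1) (hx1 : x ≠ 1) (hy : y * y = 1)
    (hy1 : y ≠ 1) : ∃ g : PF, g * x * g⁻¹ = y :=
  isConj_iff.1 (isConj_of_orderOf_two (orderOf_two_of hx hx1) (orderOf_two_of hy hy1))

theorem card_centralizer_involution (h2 : (2 : F) ≠ 0) {a : PF} (ha : a * a = 1) (ha1 : a ≠ 1) :
    (Fintype.card F % 4 = 1 ∧
        Nat.card (Subgroup.centralizer ({a} : Set PF)) = Fintype.card F - 1) ∨
      (Fintype.card F % 4 = 3 ∧
        Nat.card (Subgroup.centralizer ({a} : Set PF)) = Fintype.card F + 1) := by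
  obtain ⟨A, rfl⟩ := pmk_surjective a
  have hA := (orderOf_pmk_eq_two_iff h2).1 (orderOf_two_of ha ha1)
  rw [card_centralizer_pmk h2 hA]
  obtain ⟨h1, h3⟩ := card_centralizer_tr_zero h2 hA
  have hodd := SL2.two_ne_zero_iff_odd.1 h2
  rw [Nat.odd_iff] at hodd
  rcases (show Fintype.card F % 4 = 1 ∨ Fintype.card F % 4 = 3 by omega) with h | h
  · exact Or.inl ⟨h, h1 h⟩
  · exact Or.inr ⟨h, h3 h⟩

/-- Many involutions commute with a given one. -/
theorem exists_involution_avoid (h2 : (2 : F) ≠ 0) (h7 : 7 ≤ Fintype.card F) {a : PF}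
    (ha : a * a = 1) (ha1 : a ≠ 1) (t t' : PF) :
    ∃ b : PF, b * b = 1 ∧ b ≠ 1 ∧ b ≠ a ∧ Commute a b ∧ b ≠ t ∧ b ≠ t' := by
  classical
  obtain ⟨A, rfl⟩ := pmk_surjective a
  have hA := (orderOf_pmk_eq_two_iff h2).1 (orderOf_two_of ha ha1)
  set K := (Subgroup.centralizer ({A} : Set SLF)).map pmk with hK
  set C := Subgroup.centralizer ({pmk A} : Set PF) with hC
  have hneg : (-1 : SLF) ∈ Subgroup.centralizer ({A} : Set SLF) :=
    Subgroup.mem_centralizer_singleton_iff.2 (by simp)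
  have hcK := card_map_pmk h2 _ hneg
  rw [← hK, ← card_centralizer_pmk h2 hA, ← hC] at hcK
  have hC8 : 8 ≤ Nat.card C := by
    rcases card_centralizer_involution h2 ha ha1 with ⟨h, h'⟩ | ⟨h, h'⟩ <;> rw [← hC] at h' <;> omega
  by_contra hcon
  push Not at hcon
  have hsub : (Finset.univ.filter fun x => x ∈ C) ⊆
      (Finset.univ.filter fun x => x ∈ K) ∪ {t, t'} := by
    intro x hx
    simp only [Finset.mem_filter, Finset.mem_univ, true_and] at hx
    simp only [Finset.mem_union, Finset.mem_filter, Finset.mem_univ, true_and, Finset.mem_insert,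
      Finset.mem_singleton]
    by_cases hxK : x ∈ K
    · exact Or.inl hxK
    right
    have hx1 : x ≠ 1 := fun h => hxK (h ▸ one_mem K)
    have hxa : x ≠ pmk A := fun h => hxK (h ▸ ⟨A, Subgroup.mem_centralizer_singleton_iff.2 rfl, rfl⟩)
    have hcomm : Commute x (pmk A) := Subgroup.mem_centralizer_singleton_iff.1 hx
    have hx2 : x * x = 1 := by
      by_contra h
      obtain ⟨X, rfl⟩ := pmk_surjective x
      exact hxK ⟨X, Subgroup.mem_centralizer_singleton_iff.2 (commute_lift hcomm h), rfl⟩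
    by_cases hxt : x = t
    · exact Or.inl hxt
    · exact Or.inr (hcon x hx2 hx1 hxa hcomm.symm hxt)
  have h1 := (Finset.card_le_card hsub).trans (Finset.card_union_le _ _)
  have h3 : ({t, t'} : Finset PF).card ≤ 2 := Finset.card_le_two
  simp only [← Fintype.card_subtype, ← Nat.card_eq_fintype_card] at h1
  change Nat.card C ≤ Nat.card K + _ at h1
  omega

theorem exists_involution_even (h2 : (2 : F) = 0) (h4 : 4 ≤ Fintype.card F) {a : PF}
    (ha : a * a = 1) (ha1 : a ≠ 1) : ∃ b : PF, b * b = 1 ∧ b ≠ 1 ∧ b ≠ a ∧ Commute a b := by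
  classical
  have : CharP F 2 := CharTwo.of_one_ne_zero_of_two_eq_zero one_ne_zero h2
  have hinj : ∀ s r : F, pmk (u s) = pmk (u r) → s = r := fun s r h => by
    rcases pmk_eq_iff.1 h with e | e
    · exact u_injective e
    · rw [← neg_one_mul, neg_one_eq_one, one_mul] at e; exact u_injective e
  have hu0 : (u (0 : F) : SLF) = 1 := by simpa using u_pow (0 : F) 0 |>.symm
  have hone : ∀ s : F, pmk (u s) = 1 → s = 0 := fun s h => hinj s 0 (by rw [hu0, map_one, h])
  have hsq : ∀ s : F, pmk (u s) * pmk (u s) = (1 : PF) := fun s => by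
    rw [← map_mul, ← u_add, CharTwo.add_self_eq_zero, hu0, map_one]
  obtain ⟨h, hh⟩ := exists_conj_involution (hsq 1) (fun e => one_ne_zero (hone 1 e)) ha ha1
  obtain ⟨s, -, hs⟩ := Finset.exists_mem_notMem_of_card_lt_card
    (s := ({0, 1} : Finset F)) (t := Finset.univ)
    (lt_of_le_of_lt Finset.card_le_two (by rw [Finset.card_univ]; omega))
  simp only [Finset.mem_insert, Finset.mem_singleton, not_or] at hs
  refine ⟨h * pmk (u s) * h⁻¹, ?_, fun e => hs.1 (hone s (conj_eq_one_iff.1 e)), ?_, ?_⟩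
  · rw [conj_mul, hsq, mul_one, mul_inv_cancel]
  · rw [← hh]
    exact fun e => hs.2 (hinj _ _ (by simpa using e))
  · rw [← hh]
    have : Commute (pmk (u (1 : F))) (pmk (u s) : PF) :=
      Commute.map (show Commute (u (1 : F)) (u s) by
        rw [Commute, SemiconjBy, ← u_add, ← u_add, add_comm]) pmk
    simpa using this.map (MulAut.conj h).toMonoidHom

/-- A commuting involution avoiding the centraliser of a non-involution. -/
theorem exists_involution_inv (h4 : 4 ≤ Fintype.card F) (h5 : Fintype.card F ≠ 5) {a x₀ : PF}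
    (ha : a * a = 1) (ha1 : a ≠ 1) (hx : x₀ * x₀ ≠ 1) :
    ∃ b : PF, b * b = 1 ∧ b ≠ 1 ∧ b ≠ a ∧ Commute a b ∧ ¬ Commute b x₀ ∧ ¬ Commute (a * b) x₀ := by
  have hsq : ∀ b : PF, b * b = 1 → Commute a b → a * b * (a * b) = 1 := fun b hb hab => by
    rw [mul_assoc, ← mul_assoc b a b, ← hab.eq, mul_assoc a b b, hb, mul_one, ha]
  have hne : ∀ b : PF, b ≠ a → a * b ≠ 1 := fun b hb e => hb (by
    calc b = a * (a * b) := by rw [← mul_assoc, ha, one_mul]
      _ = a := by rw [e, mul_one])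
  by_cases h2 : (2 : F) = 0
  · obtain ⟨b, hb, hb1, hba, hab⟩ := exists_involution_even h2 h4 ha ha1
    have key : ∀ t : PF, t * t = 1 → t ≠ 1 → ¬ Commute t x₀ := by
      intro t ht ht1 hc
      have : CharP F 2 := CharTwo.of_one_ne_zero_of_two_eq_zero one_ne_zero h2
      obtain ⟨X, rfl⟩ := pmk_surjective x₀
      obtain ⟨T, rfl⟩ := pmk_surjective t
      have hT : tr T = 0 := mul_self_eq_neg_one_iff.1 (by
        rcases pmk_eq_one_iff.1 (by rw [map_mul, ht]) with e | e
        · rw [e, neg_one_eq_one]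
        · exact e)
      obtain ⟨α, β, hαβ⟩ := (mem_centralizer_iff_exists (not_mem_center ht1)).1
        (Subgroup.mem_centralizer_singleton_iff.2 (commute_lift hc.symm hx))
      have hX : tr X = 0 := by
        simp only [tr] at hT ⊢
        rw [hαβ]
        simp
        linear_combination β * hT + α * h2
      exact hx (by rw [← map_mul, mul_self_of_tr_eq_zero hX]; exact pmk_eq_one_iff.2 (Or.inr rfl))
    exact ⟨b, hb, hb1, hba, hab, key b hb hb1, key _ (hsq b hb hab) (hne b hba)⟩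
  · have h7 : 7 ≤ Fintype.card F := by
      have := SL2.two_ne_zero_iff_odd.1 h2
      rw [Nat.odd_iff] at this
      omega
    by_cases hbad : ∃ t : PF, t * t = 1 ∧ t ≠ 1 ∧ Commute t x₀
    · obtain ⟨t, ht, ht1, htx⟩ := hbad
      have huniq : ∀ s : PF, s * s = 1 → s ≠ 1 → Commute s x₀ → s = t := fun s hs hs1 hsx => by
        by_contra hne'
        rcases psl_klein h2 s t x₀ hs ht hs1 ht1 hne' (psl_ca x₀ s t hx hsx.symm htx.symm)
          hsx.symm htx.symm with e | e | e | e
        · exact hx (by rw [e, one_mul])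
        · exact hx (e ▸ hs)
        · exact hx (e ▸ ht)
        · refine hx (e ▸ ?_)
          have hst := psl_ca x₀ s t hx hsx.symm htx.symm
          rw [mul_assoc, ← mul_assoc t s t, ← hst.eq, mul_assoc s t t, ht, mul_one, hs]
      obtain ⟨b, hb, hb1, hba, hab, hbt, hbt'⟩ := exists_involution_avoid h2 h7 ha ha1 t (a * t)
      refine ⟨b, hb, hb1, hba, hab, fun h => hbt (huniq b hb hb1 h), fun h => hbt' ?_⟩
      rw [← huniq _ (hsq b hb hab) (hne b hba) h, ← mul_assoc, ha, one_mul]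
    · push Not at hbad
      obtain ⟨b, hb, hb1, hba, hab, -, -⟩ := exists_involution_avoid h2 h7 ha ha1 1 1
      exact ⟨b, hb, hb1, hba, hab, hbad b hb hb1, hbad _ (hsq b hb hab) (hne b hba)⟩

/-- The four-group `⟨a, b⟩` is not the image of `⟨a, z⟩` for every conjugating element. -/
theorem exists_conj_avoid (h2 : (2 : F) ≠ 0) (h7 : 7 ≤ Fintype.card F) {a z b : PF}
    (hz : z * z = 1) (hz1 : z ≠ 1) (ha : a * a = 1) (ha1 : a ≠ 1) (hza : z ≠ a) (haz : Commute a z)
    (hb : b * b = 1) (hb1 : b ≠ 1) (hab : Commute a b) (hbz : ¬ Commute b z) :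
    ∃ g : PF, g * a * g⁻¹ = b ∧ g * z * g⁻¹ ≠ a ∧ g * z * g⁻¹ ≠ a * b := by
  classical
  obtain ⟨g₀, hg₀⟩ := exists_conj_involution ha ha1 hb hb1
  by_contra hcon
  push Not at hcon
  have hbad : ∀ g : PF, g * a * g⁻¹ = b → g * z * g⁻¹ = a ∨ g * z * g⁻¹ = a * b := fun g hg =>
    or_iff_not_imp_left.2 (hcon g hg)
  set z₀ := g₀ * z * g₀⁻¹ with hz₀
  have hz₀2 : z₀ * z₀ = 1 := by rw [hz₀, conj_mul, hz, mul_one, mul_inv_cancel]
  have hz₀1 : z₀ ≠ 1 := fun e => hz1 (conj_eq_one_iff.1 e)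
  have hz₀b : z₀ ≠ b := fun e => hza (by
    rw [hz₀, ← hg₀] at e; simpa using e)
  have hbz₀ : Commute b z₀ := by
    rw [← hg₀, hz₀]; simpa using haz.map (MulAut.conj g₀).toMonoidHom
  set C := Subgroup.centralizer ({b} : Set PF) with hC
  have hmemC : ∀ x : PF, x ∈ C ↔ Commute x b := fun x => Subgroup.mem_centralizer_singleton_iff
  let f : PF → PF := fun h => h * z₀ * h⁻¹
  have hcard : (Finset.univ.filter fun x => x ∈ C).card ≤
      4 * ((Finset.univ.filter fun x => x ∈ C).image f).card := by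
    refine Finset.card_le_mul_card_image _ 4 fun w hw => ?_
    obtain ⟨h₀, hh₀, rfl⟩ := Finset.mem_image.1 hw
    refine le_trans (Finset.card_le_card (t := ({h₀, h₀ * b, h₀ * z₀, h₀ * (b * z₀)} : Finset PF))
      fun x hx => ?_) ((Finset.card_insert_le _ _).trans (Nat.succ_le_succ
        ((Finset.card_insert_le _ _).trans (Nat.succ_le_succ Finset.card_le_two))))
    simp only [Finset.mem_filter, Finset.mem_univ, true_and, hmemC] at hx hh₀
    have hq : Commute (h₀⁻¹ * x) z₀ := by
      have := congrArg (fun t => h₀⁻¹ * t * x) hx.2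
      simpa [f, Commute, SemiconjBy, mul_assoc] using this
    rcases psl_klein h2 b z₀ (h₀⁻¹ * x) hb hz₀2 hb1 hz₀1 (Ne.symm hz₀b) hbz₀
      (hh₀.inv_left.mul_left hx.1) hq with e | e | e | e <;>
      simp [inv_mul_eq_iff_eq_mul.1 e]
  have himg : ((Finset.univ.filter fun x => x ∈ C).image f).card ≤ 2 := by
    refine le_trans (Finset.card_le_card (t := ({a, a * b} : Finset PF)) fun w hw => ?_) Finset.card_le_two
    obtain ⟨h, hh, rfl⟩ := Finset.mem_image.1 hw
    simp only [Finset.mem_filter, Finset.mem_univ, true_and, hmemC] at hh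
    have hga : h * g₀ * a * (h * g₀)⁻¹ = b := by
      calc h * g₀ * a * (h * g₀)⁻¹ = h * (g₀ * a * g₀⁻¹) * h⁻¹ := by simp [mul_assoc]
        _ = b := by rw [hg₀, hh.eq, mul_inv_cancel_right]
    have := hbad _ hga
    simpa [f, hz₀, mul_assoc] using this
  rw [← Fintype.card_subtype, ← Nat.card_eq_fintype_card] at hcard
  change Nat.card C ≤ _ at hcard
  have hC8 : Nat.card C = 8 ∧ (Fintype.card F = 7 ∨ Fintype.card F = 9) := by
    rcases card_centralizer_involution h2 hb hb1 with ⟨h, h'⟩ | ⟨h, h'⟩ <;> rw [← hC] at h' <;> omega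
  obtain ⟨hC8, hq⟩ := hC8
  have h16 : ¬ 2 ^ 4 ∣ Nat.card PF := by
    have hP := Dickson.card_psl (F := F)
    rcases hq with h | h <;> rw [h] at hP <;> norm_num at hP ⊢ <;> omega
  -- the two four-groups
  set A := Subgroup.centralizer ({a} : Set PF) with hA
  have hmemA : ∀ x : PF, x ∈ A ↔ Commute x a := fun x => Subgroup.mem_centralizer_singleton_iff
  have hCA : A.map (MulAut.conj g₀).toMonoidHom = C := by
    ext x
    rw [Subgroup.mem_map_equiv, hmemA, hmemC, ← hg₀]
    constructor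
    · intro h
      simpa [mul_assoc] using h.map (MulAut.conj g₀).toMonoidHom
    · intro h
      simpa [mul_assoc] using h.map (MulAut.conj g₀).symm.toMonoidHom
  have hA8 : Nat.card A = 8 := by
    rw [← hC8, ← hCA, Subgroup.card_map_of_injective (MulAut.conj g₀).injective]
  set V := SL2.vFour a z ha hz haz
  set V' := SL2.vFour a b ha hb hab
  have hab' : b ≠ a := fun e => hbz (e ▸ haz)
  have hidx : ∀ (W D : Subgroup PF), Nat.card W = 4 → Nat.card D = 8 → W ≤ D →
      D ≤ Subgroup.normalizer (W : Set PF) := by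
    intro W D hW hD hle
    refine (Subgroup.normal_subgroupOf_iff_le_normalizer hle).1 (Subgroup.normal_of_index_eq_two ?_)
    have := Subgroup.card_mul_index (W.subgroupOf D)
    rw [Nat.card_congr (Subgroup.subgroupOfEquivOfLe hle).toEquiv, hW, hD] at this
    omega
  have hV4 : Nat.card V = 4 :=
    (isKleinFour_vFour (orderOf_two_of ha ha1) (orderOf_two_of hz hz1) haz (Ne.symm hza)).card_four
  have hV'4 : Nat.card V' = 4 :=
    (isKleinFour_vFour (orderOf_two_of ha ha1) (orderOf_two_of hb hb1) hab (Ne.symm hab')).card_four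
  have hmemV : ∀ x, x ∈ V ↔ x = 1 ∨ x = a ∨ x = z ∨ x = a * z := fun x => Iff.rfl
  have hmemV' : ∀ x, x ∈ V' ↔ x = 1 ∨ x = a ∨ x = b ∨ x = a * b := fun x => Iff.rfl
  have hVA : V ≤ A := fun x hx => (hmemA x).2 (by
    rcases (hmemV x).1 hx with rfl | rfl | rfl | rfl
    · exact Commute.one_left a
    · exact Commute.refl _
    · exact haz.symm
    · exact (Commute.refl a).mul_left haz.symm)
  have hV'A : V' ≤ A := fun x hx => (hmemA x).2 (by
    rcases (hmemV' x).1 hx with rfl | rfl | rfl | rfl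
    · exact Commute.one_left a
    · exact Commute.refl _
    · exact hab.symm
    · exact (Commute.refl a).mul_left hab.symm)
  have hV'C : V' ≤ C := fun x hx => (hmemC x).2 (by
    rcases (hmemV' x).1 hx with rfl | rfl | rfl | rfl
    · exact Commute.one_left b
    · exact hab
    · exact Commute.refl _
    · exact hab.mul_left (Commute.refl b))
  have hVV' : V.map (MulAut.conj g₀).toMonoidHom = V' := by
    refine Subgroup.eq_of_le_of_card_ge ?_ (by
      rw [Subgroup.card_map_of_injective (MulAut.conj g₀).injective, hV4, hV'4])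
    rintro _ ⟨x, hx, rfl⟩
    rcases (hmemV x).1 hx with rfl | rfl | rfl | rfl
    · simp
    · exact (hmemV' _).2 (Or.inr (Or.inr (Or.inl (by simpa using hg₀))))
    · rcases hbad g₀ hg₀ with e | e
      · exact (hmemV' _).2 (Or.inr (Or.inl (by simpa using e)))
      · exact (hmemV' _).2 (Or.inr (Or.inr (Or.inr (by simpa using e))))
    · have hb' : (MulAut.conj g₀).toMonoidHom (a * z) = b * (g₀ * z * g₀⁻¹) := by
        rw [← hg₀]; simp [mul_assoc]
      rw [hb']
      rcases hbad g₀ hg₀ with e | e <;> rw [e]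
      · exact (hmemV' _).2 (Or.inr (Or.inr (Or.inr hab.eq.symm)))
      · refine (hmemV' _).2 (Or.inr (Or.inl ?_))
        rw [hab.eq, ← mul_assoc, hb, one_mul]
  set N := Subgroup.normalizer (V' : Set PF) with hN
  have hAN : A ≤ N := hidx V' A hV'4 hA8 hV'A
  have hCN : C ≤ N := hidx V' C hV'4 hC8 hV'C
  haveI : Fact (Nat.Prime 2) := ⟨Nat.prime_two⟩
  obtain ⟨n, hn⟩ := Dickson.Thirteen.sylow_conj (G := N) (r := 2) (k := 3)
    (fun h => h16 (h.trans (Subgroup.card_subgroup_dvd_card N)))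
    (H := A.subgroupOf N) (U := C.subgroupOf N)
    (by rw [Nat.card_congr (Subgroup.subgroupOfEquivOfLe hAN).toEquiv, hA8]; norm_num)
    (by rw [Nat.card_congr (Subgroup.subgroupOfEquivOfLe hCN).toEquiv, hC8]; norm_num)
  have hnC : ∀ x ∈ C, (n : PF) * x * (n : PF)⁻¹ ∈ A := fun x hx => by
    have : MulAut.conj n ⟨x, hCN hx⟩ ∈ A.subgroupOf N := hn ▸ ⟨⟨x, hCN hx⟩, hx, rfl⟩
    simpa [Subgroup.mem_subgroupOf] using this
  -- `n g₀` centralises `a`
  set m := (n : PF) * g₀ with hm
  have hmA : ∀ x ∈ A, m * x * m⁻¹ ∈ A := fun x hx => by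
    have : g₀ * x * g₀⁻¹ ∈ C := hCA ▸ ⟨x, hx, rfl⟩
    simpa [hm, mul_assoc] using hnC _ this
  have hmon : ∀ x ∈ A, ∃ y ∈ A, m * y * m⁻¹ = x := by
    have hinj : Function.Injective fun x : A => (⟨m * x * m⁻¹, hmA x x.2⟩ : A) := fun x y he =>
      Subtype.ext (by simpa using congrArg Subtype.val he)
    intro x hx
    obtain ⟨y, hy⟩ := Finite.injective_iff_surjective.mp hinj ⟨x, hx⟩
    exact ⟨y, y.2, congrArg Subtype.val hy⟩
  have hcen : ∀ x ∈ A, Commute (m * a * m⁻¹) x := fun x hx => by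
    obtain ⟨y, hy, rfl⟩ := hmon x hx
    simpa using ((hmemA y).1 hy).symm.map (MulAut.conj m).toMonoidHom
  have hma : m * a * m⁻¹ = a := by
    rcases psl_klein h2 a z (m * a * m⁻¹) ha hz ha1 hz1 (Ne.symm hza) haz
        (hcen a (hVA ((hmemV a).2 (Or.inr (Or.inl rfl)))))
        (hcen z (hVA ((hmemV z).2 (Or.inr (Or.inr (Or.inl rfl)))))) with e | e | e | e
    · exact absurd (conj_eq_one_iff.1 e) ha1
    · exact e
    · exact absurd (e ▸ (hcen b (hV'A ((hmemV' b).2 (Or.inr (Or.inr (Or.inl rfl))))))).symm hbz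
    · exfalso
      have h1 := hcen b (hV'A ((hmemV' b).2 (Or.inr (Or.inr (Or.inl rfl)))))
      rw [e] at h1
      have h2' := hab.mul_left h1
      rw [← mul_assoc, ha, one_mul] at h2'
      exact hbz h2'.symm
  have hmem : m ∈ A := (hmemA m).2 (mul_inv_eq_iff_eq_mul.1 hma)
  have h1 : V.map (MulAut.conj m).toMonoidHom = V :=
    Subgroup.mem_normalizer_iff_map_conj_eq.1 (hidx V A hV4 hA8 hVA hmem)
  have h2' : V'.map (MulAut.conj (n : PF)).toMonoidHom = V' :=
    Subgroup.mem_normalizer_iff_map_conj_eq.1 n.2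
  have heq : V = V' := by
    rw [← h1, ← h2', ← hVV', Subgroup.map_map]
    congr 1
    ext x
    simp [hm, mul_assoc]
  have hbV : b ∈ V := heq ▸ (hmemV' b).2 (Or.inr (Or.inr (Or.inl rfl)))
  rcases (hmemV b).1 hbV with e | e | e | e
  · exact hb1 e
  · exact hab' e
  · exact hbz (e ▸ Commute.refl z)
  · exact hbz (e ▸ haz.mul_left (Commute.refl z))

end CfsgLib.BinaryPSL
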