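import Cfsg.Agent.BinaryPSL.Borel
import Cfsg.Agent.BinaryPSL.Torus

/-!
The binary coset actions in characteristic two.
-/

set_option autoImplicit false

namespace CfsgLib.BinaryPSL

open CfsgLib.SL2

variable {F : Type*} [Field F]

local notation "SLF" => Matrix.SpecialLinearGroup (Fin 2) F
local notation "PF" => Matrix.ProjectiveSpecialLinearGroup (Fin 2) F

/-- The action on the non-zero vectors is binary. -/
theorem isBinary_unipotent [CharP F 2] : IsBinary ((U : Subgroup SLF).map pmk) := by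
  have key : ∀ N : SLF, pmk N ∈ (U : Subgroup SLF).map pmk ↔ N 0 0 = 1 ∧ N 1 0 = 0 := by
    intro N
    constructor
    · rintro ⟨g, hg, he⟩
      have hgN : g = N := by
        rcases pmk_eq_iff.1 he with e | e
        · exact e
        · rwa [← neg_one_mul, neg_one_eq_one, one_mul] at e
      subst hgN
      exact ⟨(mem_U_iff_entries.1 hg).1, (mem_U_iff_entries.1 hg).2.1⟩
    · rintro ⟨h00, h10⟩
      refine ⟨N, mem_U_iff_entries.2 ⟨h00, h10, ?_⟩, rfl⟩
      have := det_eq N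
      rw [h00, h10] at this
      linear_combination this
  intro n I J hn hp
  choose x hx using fun i => QuotientGroup.mk_surjective (I i)
  choose y hy using fun i => QuotientGroup.mk_surjective (J i)
  simp only [← hx, ← hy, mk_smul_eq_iff] at hp ⊢
  choose X hX using fun i => pmk_surjective (x i)
  choose Y hY using fun i => pmk_surjective (y i)
  have col : ∀ (M : SLF) (i : Fin n), (y i)⁻¹ * pmk M * x i ∈ (U : Subgroup SLF).map pmk ↔
      M 0 0 * X i 0 0 + M 0 1 * X i 1 0 = Y i 0 0 ∧ M 1 0 * X i 0 0 + M 1 1 * X i 1 0 = Y i 1 0 := by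
    intro M i
    have hdet := det_eq (Y i)
    rw [← hX, ← hY, ← map_inv, ← map_mul, ← map_mul, key]
    simp [Matrix.mul_apply, Fin.sum_univ_two, Matrix.SpecialLinearGroup.coe_inv,
      Matrix.adjugate_fin_two, Matrix.vecMul, dotProduct]
    constructor
    · rintro ⟨h1, h2⟩
      exact ⟨by linear_combination Y i 0 0 * h1 + Y i 0 1 * h2 - (M 0 0 * X i 0 0 + M 0 1 * X i 1 0) * hdet,
        by linear_combination Y i 1 0 * h1 + Y i 1 1 * h2 - (M 1 0 * X i 0 0 + M 1 1 * X i 1 0) * hdet⟩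
    · rintro ⟨h1, h2⟩
      exact ⟨by linear_combination Y i 1 1 * h1 - Y i 0 1 * h2 + hdet,
        by linear_combination -Y i 1 0 * h1 + Y i 0 0 * h2⟩
  have pair : ∀ i j : Fin n, i ≠ j → ∃ M : SLF,
      (M 0 0 * X i 0 0 + M 0 1 * X i 1 0 = Y i 0 0 ∧ M 1 0 * X i 0 0 + M 1 1 * X i 1 0 = Y i 1 0) ∧
      (M 0 0 * X j 0 0 + M 0 1 * X j 1 0 = Y j 0 0 ∧ M 1 0 * X j 0 0 + M 1 1 * X j 1 0 = Y j 1 0) := by
    intro i j hij
    obtain ⟨g, h1, h2⟩ := hp i j hij
    obtain ⟨M, rfl⟩ := pmk_surjective g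
    exact ⟨M, (col M i).1 h1, (col M j).1 h2⟩
  set i₀ : Fin n := ⟨0, by omega⟩
  set det := fun (Z : Fin n → SLF) i j => Z i 0 0 * Z j 1 0 - Z i 1 0 * Z j 0 0 with hdetdef
  have hinv : ∀ i j, i ≠ j → det X i j = det Y i j := by
    intro i j hij
    obtain ⟨M, ⟨a, b⟩, c, e⟩ := pair i j hij
    simp only [hdetdef]
    rw [← a, ← b, ← c, ← e]
    linear_combination -(X i 0 0 * X j 1 0 - X i 1 0 * X j 0 0) * det_eq M
  suffices h : ∃ M : SLF, ∀ i, M 0 0 * X i 0 0 + M 0 1 * X i 1 0 = Y i 0 0 ∧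
      M 1 0 * X i 0 0 + M 1 1 * X i 1 0 = Y i 1 0 by
    obtain ⟨M, hM⟩ := h
    exact ⟨pmk M, fun i => (col M i).2 (hM i)⟩
  by_cases hall : ∀ i, det X i₀ i = 0
  · set i₁ : Fin n := ⟨1, by omega⟩
    obtain ⟨M, hM0, -⟩ := pair i₀ i₁ (by simp [i₀, i₁, Fin.ext_iff])
    refine ⟨M, fun i => ?_⟩
    by_cases hi : i = i₀
    · exact hi ▸ hM0
    obtain ⟨N, ⟨a, b⟩, c, e⟩ := pair i₀ i (Ne.symm hi)
    have hd := hall i
    simp only [hdetdef] at hd
    obtain ⟨a', b'⟩ := hM0
    have hne : X i₀ 0 0 ≠ 0 ∨ X i₀ 1 0 ≠ 0 := by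
      by_contra h
      push Not at h
      have := det_eq (X i₀)
      rw [h.1, h.2] at this
      simp at this
    obtain ⟨t, ht0, ht1⟩ : ∃ t, X i 0 0 = t * X i₀ 0 0 ∧ X i 1 0 = t * X i₀ 1 0 := by
      rcases hne with h | h
      · exact ⟨X i 0 0 / X i₀ 0 0, by field_simp, by field_simp; linear_combination hd⟩
      · exact ⟨X i 1 0 / X i₀ 1 0, by field_simp; linear_combination -hd, by field_simp⟩
    rw [ht0, ht1] at c e ⊢
    exact ⟨by linear_combination t * a' - t * a + c, by linear_combination t * b' - t * b + e⟩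
  · push Not at hall
    obtain ⟨j, hj⟩ := hall
    have hij : i₀ ≠ j := fun h => hj (by simp only [hdetdef, ← h]; ring)
    obtain ⟨M, hM0, hMj⟩ := pair i₀ j hij
    refine ⟨M, fun i => ?_⟩
    by_cases hi : i = i₀
    · exact hi ▸ hM0
    by_cases hij' : i = j
    · exact hij' ▸ hMj
    have h1 := hinv i₀ i (Ne.symm hi)
    have h2 := hinv j i (Ne.symm hij')
    have h3 := hinv i₀ j hij
    simp only [hdetdef] at h1 h2 h3 hj
    obtain ⟨a, b⟩ := hM0
    obtain ⟨c, e⟩ := hMj
    have hM := det_eq M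
    set z₀ := M 0 0 * X i 0 0 + M 0 1 * X i 1 0 with hz₀
    set z₁ := M 1 0 * X i 0 0 + M 1 1 * X i 1 0 with hz₁
    have e1 : Y i₀ 0 0 * z₁ - Y i₀ 1 0 * z₀ = Y i₀ 0 0 * Y i 1 0 - Y i₀ 1 0 * Y i 0 0 := by
      rw [← h1, ← a, ← b, hz₀, hz₁]
      linear_combination (X i₀ 0 0 * X i 1 0 - X i₀ 1 0 * X i 0 0) * hM
    have e2 : Y j 0 0 * z₁ - Y j 1 0 * z₀ = Y j 0 0 * Y i 1 0 - Y j 1 0 * Y i 0 0 := by
      rw [← h2, ← c, ← e, hz₀, hz₁]
      linear_combination (X j 0 0 * X i 1 0 - X j 1 0 * X i 0 0) * hM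
    rw [h3] at hj
    exact ⟨mul_left_cancel₀ hj (by linear_combination Y j 0 0 * e1 - Y i₀ 0 0 * e2),
      mul_left_cancel₀ hj (by linear_combination Y j 1 0 * e1 - Y i₀ 1 0 * e2)⟩

variable [Fintype F]

theorem no_root_of_odd {a : ℕ} (ha : Odd a) (hF : Fintype.card F = 2 ^ a) [CharP F 2] {u v : F}
    (h : u * u + u * v + v * v = 0) : u = 0 ∧ v = 0 := by
  by_cases hv : v = 0
  · exact ⟨mul_self_eq_zero.1 (by linear_combination h - (u + v) * hv), hv⟩
  exfalso
  set w := u / v with hw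
  have hw2 : w * w + w + 1 = 0 := by
    rw [hw]; field_simp; linear_combination h
  have hw3 : w ^ 3 = 1 := by linear_combination (w - 1) * hw2
  have hw0 : w ≠ 0 := fun e => by rw [e] at hw3; simp at hw3
  have hw1 : w ≠ 1 := fun e => by
    rw [e] at hw2
    exact one_ne_zero (show (1 : F) = 0 by linear_combination hw2 - (CharTwo.two_eq_zero (R := F)))
  have h3 : 3 ∣ Fintype.card F - 1 := by
    rw [← orderOf_eq_prime hw3 hw1]
    exact orderOf_dvd_of_pow_eq_one (FiniteField.pow_card_sub_one_eq_one w hw0)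
  obtain ⟨b, rfl⟩ := ha
  rw [hF, pow_succ, pow_mul] at h3
  have h4 : (4 : ℕ) ^ b % 3 = 1 := by simp [Nat.pow_mod]
  norm_num at h3
  omega

theorem trace_of_order_three [CharP F 2] {S : SLF} (h1 : pmk S ≠ 1) (h3 : pmk S ^ 3 = 1) :
    tr S = 1 := by
  rw [← map_pow, pmk_eq_one_iff] at h3
  have hS3 : S ^ 3 = 1 := by
    rcases h3 with e | e
    · exact e
    · rw [e, neg_one_eq_one]
  by_contra ht
  set t := tr S
  have hsq := coe_sq S
  have h' : ((S : Matrix (Fin 2) (Fin 2) F)) * S * S = 1 := by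
    have := congrArg (fun z : SLF => (z : Matrix (Fin 2) (Fin 2) F)) hS3
    simpa [pow_succ] using this
  rw [hsq, sub_mul, smul_mul_assoc, hsq, one_mul] at h'
  have e01 := congrFun (congrFun h' 0) 1
  have e10 := congrFun (congrFun h' 1) 0
  have e00 := congrFun (congrFun h' 0) 0
  have e11 := congrFun (congrFun h' 1) 1
  simp at e01 e10 e00 e11
  have hne : t * t - 1 ≠ 0 := fun e => ht (by
    rcases mul_self_eq_one_iff.1 (sub_eq_zero.1 e) with e' | e'
    · exact e'
    · rw [e', CharTwo.neg_eq])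
  refine (not_mem_center h1) (mem_center_iff'.2 ?_)
  have h01 : S 0 1 = 0 :=
    (mul_eq_zero.1 (show (t * t - 1) * S 0 1 = 0 by linear_combination e01)).resolve_left hne
  have h10 : S 1 0 = 0 :=
    (mul_eq_zero.1 (show (t * t - 1) * S 1 0 = 0 by linear_combination e10)).resolve_left hne
  have hd : S 0 0 = S 1 1 :=
    sub_eq_zero.1 ((mul_eq_zero.1 (show (t * t - 1) * (S 0 0 - S 1 1) = 0 by
      linear_combination e00 - e11)).resolve_left hne)
  have hdet := det_eq S
  rw [h01, h10, hd] at hdet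
  rcases mul_self_eq_one_iff.1 (show S 1 1 * S 1 1 = 1 by linear_combination hdet) with e | e
  · left
    apply ext4 <;> simp [h01, h10, hd, e]
  · right
    apply ext4 <;> simp [h01, h10, hd, e]

/-- The action on the cosets of a subgroup of order three is binary for odd degree over `F₂`. -/
theorem isBinary_three {a : ℕ} (ha : Odd a) (hF : Fintype.card F = 2 ^ a) [CharP F 2] {H : Subgroup PF}
    (hH : Nat.card H = 3) : IsBinary H := by
  have hpow : ∀ x ∈ H, x ^ 3 = 1 := fun x hx => by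
    have := pow_card_eq_one' (G := H) (x := ⟨x, hx⟩)
    rw [hH] at this
    exact congrArg Subtype.val this
  have hgen : ∀ x ∈ H, x ≠ 1 → Subgroup.zpowers x = H := fun x hx hx1 =>
    Subgroup.eq_of_le_of_card_ge (Subgroup.zpowers_le.2 hx)
      (by rw [hH, Nat.card_zpowers, orderOf_eq_prime (hpow x hx) hx1])
  have hnorm : ∀ (g d : PF), d ∈ H → d ≠ 1 → g⁻¹ * d * g ∈ H →
      g ∈ Subgroup.normalizer (H : Set PF) := by
    intro g d hd hd1 hg
    have h1 : g⁻¹ * d * g ≠ 1 := fun e => hd1 (by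
      simpa [mul_assoc] using congrArg (fun z => g * z * g⁻¹) e)
    rw [Subgroup.mem_normalizer_iff_map_conj_eq]
    conv_lhs => rw [← hgen _ hg h1]
    rw [MonoidHom.map_zpowers]
    convert hgen d hd hd1 using 2
    simp [mul_assoc]
  refine isBinary_of_no_triangle fun g k a b c ha' hb hc he ha1 => ?_
  by_cases hb1 : b = 1
  · right
    rw [hb1, one_mul] at he
    subst he
    exact hnorm k a ha' ha1 hc
  by_cases hc1 : c = 1
  · left
    rw [hc1, mul_one] at he
    subst he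
    exact hnorm g a ha' ha1 hb
  have h3 : ∀ (g d : PF), g⁻¹ * d * g ∈ H → d ^ 3 = 1 := fun g d hd => by
    have := hpow _ hd
    have h' := congrArg (fun z => g * z * g⁻¹) this
    simpa [pow_succ, mul_assoc] using h'
  have hbc : b = c := by
    obtain ⟨S, rfl⟩ := pmk_surjective b
    obtain ⟨T, rfl⟩ := pmk_surjective c
    have hS := trace_of_order_three hb1 (h3 g _ hb)
    have hT := trace_of_order_three hc1 (h3 k _ hc)
    have hST : tr (S * T) = 1 := trace_of_order_three (by rw [map_mul, ← he]; exact ha1)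
      (by rw [map_mul, ← he]; exact hpow a ha')
    have h14 : (1 : F) ^ 2 ≠ 4 := fun e => one_ne_zero
      (show (1 : F) = 0 by linear_combination e + 2 * (CharTwo.two_eq_zero (R := F)))
    obtain ⟨P, hP⟩ := isConj_iff.1 (isConj_of_tr_eq (g := comp (1 : F)) (h := S)
      (by rw [tr_comp]; exact h14) (by rw [tr_comp, hS]))
    set T' := P⁻¹ * T * P with hT'def
    have hT' : tr T' = 1 := by
      rw [hT'def, show P⁻¹ * T * P = P⁻¹ * T * P⁻¹⁻¹ by rw [inv_inv], tr_conj, hT]
    have hST' : tr (comp (1 : F) * T') = 1 := by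
      rw [show comp (1 : F) * T' = P⁻¹ * (S * T) * P⁻¹⁻¹ by rw [hT'def, inv_inv, ← hP]; group, tr_conj, hST]
    have hd := det_eq T'
    simp [tr, comp, Matrix.mul_apply, Fin.sum_univ_two] at hT' hST'
    have h20 := CharTwo.two_eq_zero (R := F)
    obtain ⟨hu, hv⟩ := no_root_of_odd ha hF (u := T' 0 1 + 1) (v := T' 1 0 + 1) (by
      linear_combination -hd + T' 1 1 * hT' + (T' 0 1 - T' 1 0 - T' 1 1) * hST' +
        h20 * (T' 0 1 * T' 1 0 + 2 * T' 0 1 + T' 1 0 + 1))
    have e01 : T' 0 1 = 1 := by linear_combination hu - h20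
    have e10 : T' 1 0 = 1 := by linear_combination hv - h20
    have e11 : T' 1 1 = 1 := by
      rw [e01, e10] at hST'
      linear_combination hST'
    have e00 : T' 0 0 = 0 := by linear_combination hT' - e11
    have : T' = comp 1 := by
      apply ext4 <;> simp [comp, e00, e01, e10, e11, CharTwo.neg_eq]
    have hTS : T = S := by
      rw [← hP, ← this, hT'def]; group
    rw [hTS]
  subst hbc
  left
  refine hnorm g a ha' ha1 ?_
  have := mul_mem hb hb
  rwa [show g⁻¹ * b * g * (g⁻¹ * b * g) = g⁻¹ * (b * b) * g by simp [mul_assoc], ← he] at this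

end CfsgLib.BinaryPSL
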